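import Cfsg.Agent.KlingerMason.Local
import Cfsg.Prelude.Def_LocalEven

/-!
# Centralisers of involutions in groups of characteristic 2 and characteristic p

The critical subgroup H of the 2-core of the centraliser of an involution z that centralises an
elementary abelian p-subgroup of largest 2-local rank: commutators and the centre are governed by z.
-/

set_option autoImplicit false
set_option linter.unusedSectionVars false

open Subgroup
open scoped commutatorElement

namespace Cfsg.Agent.KlingerMason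

variable {G : Type*} [Group G] [Finite G] {p : ℕ} [Fact p.Prime]

/-- A shift by an element of coprime order that is fixed is trivial. -/
theorem shift_one {b k u : G} {m l : ℕ} (hbk : b * k = k * b) (hu : b * u * b⁻¹ = k * u)
    (hb : b ^ m = 1) (hk : k ^ l = 1) (hml : m.Coprime l) : k = 1 := by
  have h : ∀ i : ℕ, b ^ i * u * (b ^ i)⁻¹ = k ^ i * u := by
    intro i
    induction i with
    | zero => simp
    | succ i ih =>
      have hc : b ^ i * k = k * b ^ i := (Commute.pow_left hbk i).eq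
      calc b ^ (i + 1) * u * (b ^ (i + 1))⁻¹ = b ^ i * (b * u * b⁻¹) * (b ^ i)⁻¹ := by
            rw [pow_succ]; group
        _ = k * (b ^ i * u * (b ^ i)⁻¹) := by rw [hu, ← mul_assoc, hc]; group
        _ = k ^ (i + 1) * u := by rw [ih, ← mul_assoc, ← pow_succ']
  have hm := h m
  rw [hb] at hm
  have hkm : k ^ m = 1 := by simpa using hm
  exact orderOf_eq_one_iff.mp (Nat.eq_one_of_dvd_coprimes hml (orderOf_dvd_of_pow_eq_one hkm)
    (orderOf_dvd_of_pow_eq_one hk))

theorem coprime_pow_two (hp : p ≠ 2) (k m : ℕ) : (p ^ k).Coprime (2 ^ m) :=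
  ((Nat.coprime_primes Fact.out Nat.prime_two).mpr hp).pow k m

theorem pow_card_of_mem {q : ℕ} {H : Subgroup G} (hH : IsPGroup q H) {x : G} (hx : x ∈ H) :
    ∃ m, x ^ q ^ m = 1 := by
  obtain ⟨m, hm⟩ := hH ⟨x, hx⟩
  exact ⟨m, by simpa using congrArg Subtype.val hm⟩

theorem eq_one_of_both (hp : p ≠ 2) {X Y : Subgroup G} (hX : IsPGroup p X) (hY : IsPGroup 2 Y)
    {x : G} (hx : x ∈ X) (hy : x ∈ Y) : x = 1 := by
  obtain ⟨k, hk⟩ := pow_card_of_mem hX hx
  obtain ⟨m, hm⟩ := pow_card_of_mem hY hy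
  exact orderOf_eq_one_iff.mp (Nat.eq_one_of_dvd_coprimes (coprime_pow_two hp k m)
    (orderOf_dvd_of_pow_eq_one hk) (orderOf_dvd_of_pow_eq_one hm))

theorem eq_one_of_pow (hp : p ≠ 2) {Y : Subgroup G} (hY : IsPGroup 2 Y) {x : G} (hx : x ∈ Y)
    (hxp : x ^ p = 1) : x = 1 := by
  obtain ⟨m, hm⟩ := pow_card_of_mem hY hx
  exact orderOf_eq_one_iff.mp (Nat.eq_one_of_dvd_coprimes (coprime_pow_two hp 1 m)
    (orderOf_dvd_of_pow_eq_one (by rwa [pow_one])) (orderOf_dvd_of_pow_eq_one hm))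

/-- Elements of a p-group and a 2-group normalising each other's group commute. -/
theorem cross_comm (hp : p ≠ 2) {X Y : Subgroup G} (hX : IsPGroup p X) (hY : IsPGroup 2 Y)
    {x y : G} (hx : x ∈ X) (hy : y ∈ Y) (hxY : x ∈ normalizer (Y : Set G))
    (hyX : y ∈ normalizer (X : Set G)) : Commute x y := by
  refine commutatorElement_eq_one_iff_mul_comm.mp (eq_one_of_both hp hX hY ?_ ?_)
  · rw [commutatorElement_def, show x * y * x⁻¹ * y⁻¹ = x * (y * x⁻¹ * y⁻¹) by group]
    exact mul_mem hx ((mem_normalizer_iff.mp hyX _).mp (inv_mem hx))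
  · rw [commutatorElement_def]
    exact mul_mem ((mem_normalizer_iff.mp hxY _).mp hy) (inv_mem hy)

/-- A fixed shift in a 2-group by an element of order p is trivial. -/
theorem shift_one_two (hp : p ≠ 2) {Y : Subgroup G} (hY : IsPGroup 2 Y) {b k u : G} (hk : k ∈ Y)
    (hbk : b * k = k * b) (hu : b * u * b⁻¹ = k * u) (hb : b ^ p = 1) : k = 1 := by
  obtain ⟨m, hm⟩ := pow_card_of_mem hY hk
  exact shift_one hbk hu hb hm (by simpa using coprime_pow_two hp 1 m)

/-- The largest normal q-subgroup of a normaliser, in the ambient group. -/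
def normCore (q : ℕ) (T : Subgroup G) : Subgroup G :=
  (pCore q ↥(normalizer (T : Set G))).map (normalizer (T : Set G)).subtype

theorem normCore_le (q : ℕ) (T : Subgroup G) : normCore q T ≤ normalizer (T : Set G) := map_subtype_le _

theorem normCore_isPGroup (q : ℕ) [Fact q.Prime] (T : Subgroup G) : IsPGroup q (normCore q T) :=
  Core.pCore_isPGroup.map _

theorem normalizer_le_normalizer_normCore (q : ℕ) (T : Subgroup G) :
    normalizer (T : Set G) ≤ normalizer (normCore q T : Set G) := by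
  refine le_normalizer_of_conj ?_
  rintro c hc _ ⟨y, hy, rfl⟩
  exact ⟨⟨c, hc⟩ * y * ⟨c, hc⟩⁻¹, Core.pCore_normal.conj_mem y hy _, rfl⟩

theorem le_normCore (q : ℕ) [Fact q.Prime] {T : Subgroup G} (hT : IsPGroup q T) : T ≤ normCore q T := by
  intro t ht
  have hn : (comap (normalizer (T : Set G)).subtype T).Normal :=
    ⟨fun y hy w => (mem_normalizer_iff.mp w.2 _).mp hy⟩
  exact ⟨⟨t, le_normalizer ht⟩, Core.le_pCore hT.comap_subtype ht, rfl⟩

theorem mem_normCore_of_centralizes {q : ℕ} {T : Subgroup G}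
    (h : centralizer (pCore q ↥(normalizer (T : Set G)) : Set ↥(normalizer (T : Set G))) ≤
      pCore q ↥(normalizer (T : Set G))) {x : G} (hx : x ∈ normalizer (T : Set G))
    (hc : ∀ t ∈ normCore q T, x * t = t * x) : x ∈ normCore q T :=
  ⟨⟨x, hx⟩, h (mem_centralizer_iff.mpr fun y hy => Subtype.ext (hc _ ⟨y, hy, rfl⟩).symm), rfl⟩

theorem mem_normalizer_zpowers {z x : G} (hx : x * z = z * x) : x ∈ normalizer (zpowers z : Set G) := by
  refine centralizer_le_normalizer _ (mem_centralizer_iff.mpr fun y hy => ?_)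
  obtain ⟨i, rfl⟩ := mem_zpowers_iff.mp hy
  exact ((Commute.zpow_right hx i).eq).symm

theorem commute_of_mem_normalizer_zpowers {z x : G} (hz : z * z = 1)
    (hx : x ∈ normalizer (zpowers z : Set G)) : x * z = z * x := by
  obtain ⟨i, hi⟩ := mem_zpowers_iff.mp ((mem_normalizer_iff.mp hx z).mp (mem_zpowers z))
  rcases Int.even_or_odd i with ⟨k, rfl⟩ | ⟨k, rfl⟩
  · rw [← two_mul, zpow_mul, zpow_two, hz, one_zpow, eq_comm, conj_eq_one_iff] at hi
    rw [hi, mul_one, one_mul]
  · rw [zpow_add, zpow_mul, zpow_two, hz, one_zpow, one_mul, zpow_one, eq_comm] at hi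
    exact mul_inv_eq_iff_eq_mul.mp hi

/-- The standing assumptions on G. -/
structure Setting (p n : ℕ) (G : Type*) [Group G] : Prop where
  odd : p ≠ 2
  rank : 3 ≤ n
  charP : IsOfLocalCharacteristic p G
  char2 : IsCharacteristicTwoType G
  bound : TwoLocalPRankLE p n G

/-- Centralisers of non-trivial p-subgroups are p-constrained with trivial core. -/
theorem self_of_charP (hG : IsOfLocalCharacteristic p G) {A : Subgroup G} (hA : IsPGroup p A)
    (hA1 : A ≠ ⊥) : ∀ x ∈ centralizer (A : Set G), (∀ r ∈ centCore p A, x * r = r * x) →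
      x ∈ centCore p A := by
  intro x hx hxr
  set C := centralizer (A : Set G) with hC
  let X : Subgroup C := centralizer (pCore p C : Set C)
  have hXn : X.Normal := by
    have : (pCore p C).Normal := Core.pCore_normal
    infer_instance
  have hN : C ≤ normalizer (A : Set G) := centralizer_le_normalizer _
  have hXp : IsPGroup p X := by
    rintro ⟨g, hg⟩
    obtain ⟨k, m, hm, hord⟩ := Nat.exists_eq_pow_mul_and_not_dvd (orderOf_pos g).ne' p
      (Fact.out : p.Prime).ne_one
    refine ⟨k, Subtype.ext ?_⟩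
    set g' := g ^ p ^ k with hg'
    have hg'm : ((g' : C) : G) ^ m = 1 := by
      rw [hg', ← SubmonoidClass.coe_pow, ← pow_mul, ← hord, pow_orderOf_eq_one, OneMemClass.coe_one]
    have hfix : ∀ t ∈ normCore p A, ((g' : C) : G) * t = t * ((g' : C) : G) := by
      intro t ht
      set c := ((g' : C) : G) * t * ((g' : C) : G)⁻¹ * t⁻¹ with hc
      have htN := normCore_le p A ht
      have hcC : c ∈ C := by
        rw [hc, show ((g' : C) : G) * t * ((g' : C) : G)⁻¹ * t⁻¹ =
          ((g' : C) : G) * (t * ((g' : C) : G)⁻¹ * t⁻¹) by group]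
        refine mul_mem g'.2 (mem_centralizer_iff.mpr fun a ha => ?_)
        have ha' := (mem_normalizer_iff.mp (inv_mem htN) a).mp ha
        rw [inv_inv] at ha'
        have h1 := mem_centralizer_iff.mp (inv_mem g'.2) _ ha'
        calc a * (t * ((g' : C) : G)⁻¹ * t⁻¹) = t * (t⁻¹ * a * t * ((g' : C) : G)⁻¹) * t⁻¹ := by group
          _ = t * (((g' : C) : G)⁻¹ * (t⁻¹ * a * t)) * t⁻¹ := by rw [h1]
          _ = t * ((g' : C) : G)⁻¹ * t⁻¹ * a := by group
      have hcP : c ∈ normCore p A := mul_mem ((mem_normalizer_iff.mp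
        (normalizer_le_normalizer_normCore p A (hN g'.2)) t).mp ht) (inv_mem ht)
      have hcR : (⟨c, hcC⟩ : C) ∈ pCore p C := by
        have hn : (comap C.subtype (normCore p A)).Normal := ⟨fun y hy w =>
          (mem_normalizer_iff.mp (normalizer_le_normalizer_normCore p A (hN w.2)) _).mp hy⟩
        exact Core.le_pCore ((normCore_isPGroup p A).comap_subtype) hcP
      have hgc : ((g' : C) : G) * c = c * ((g' : C) : G) :=
        (congrArg Subtype.val (mem_centralizer_iff.mp (pow_mem hg _ : g' ∈ X) _ hcR)).symm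
      obtain ⟨l, hl⟩ := pow_card_of_mem (normCore_isPGroup p A) hcP
      have hc1 : c = 1 := shift_one hgc (u := t) (by rw [hc]; group) hg'm hl
        (((Fact.out : p.Prime).coprime_iff_not_dvd.mpr hm).symm.pow_right l)
      rw [hc, mul_inv_eq_one] at hc1
      exact mul_inv_eq_iff_eq_mul.mp hc1
    obtain ⟨l, hl⟩ := pow_card_of_mem (normCore_isPGroup p A)
      (mem_normCore_of_centralizes (hG.2 A hA hA1) (hN g'.2) hfix)
    have h1 : ((g' : C) : G) = 1 := orderOf_eq_one_iff.mp (Nat.eq_one_of_dvd_coprimes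
      (((Fact.out : p.Prime).coprime_iff_not_dvd.mpr hm).symm.pow_right l)
      (orderOf_dvd_of_pow_eq_one hg'm) (orderOf_dvd_of_pow_eq_one hl))
    show g ^ p ^ k = 1
    exact Subtype.ext h1
  refine ⟨⟨x, hx⟩, Core.le_pCore hXp (mem_centralizer_iff.mpr fun y hy => Subtype.ext ?_), rfl⟩
  exact (hxr _ ⟨y, hy, rfl⟩).symm

namespace Setting

variable {n : ℕ} (h : Setting p n G)
include h

theorem hyp {B : Subgroup G} (hB : IsElementaryAbelian p B) (hBn : Nat.card B = p ^ n) : Hyp p n B := by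
  refine ⟨h.odd, le_trans (by norm_num) h.rank, hB, hBn, h.bound, fun A hAB hA => ?_⟩
  refine self_of_charP h.charP (Coprime.ea_isPGroup (Coprime.ea_mono hB hAB)) fun hbot => ?_
  rw [hbot, card_bot] at hA
  have := h.rank
  exact absurd hA.symm (Nat.one_lt_pow (by omega) (Fact.out : p.Prime).one_lt).ne'

end Setting

/-- The data attached to an involution centralising a large elementary p-subgroup. -/
structure Centre (p : ℕ) (z : G) (H : Subgroup G) : Prop where
  sq_one : z * z = 1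
  ne_one : z ≠ 1
  le : H ≤ centralizer {z}
  mem : z ∈ H
  two : IsPGroup 2 H
  norm : centralizer {z} ≤ normalizer (H : Set G)
  cls : ∀ x ∈ H, ∀ y ∈ H, ⁅x, y⁆ = 1 ∨ ⁅x, y⁆ = z
  sq : ∀ x ∈ H, ∀ y ∈ H, Commute (x * x) y
  cen : ∀ x ∈ H, (∀ y ∈ H, Commute x y) → x ≠ 1 → ∃ k : ℕ, x ^ k = z
  faithful : ∀ b : G, b ^ p = 1 → b * z = z * b → (∀ x ∈ H, Commute b x) → b = 1

namespace Centre

variable {z : G} {H : Subgroup G} (d : Centre p z H)
include d

theorem inv_eq : z⁻¹ = z := inv_eq_of_mul_eq_one_left d.sq_one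

theorem comm_z {x : G} (hx : x ∈ H) : Commute x z := mem_centralizer_singleton_iff.mp (d.le hx)

theorem conj_mem {b x : G} (hb : b * z = z * b) (hx : x ∈ H) : b * x * b⁻¹ ∈ H :=
  mem_centralizer_of_le_normalizer d.norm (mem_centralizer_singleton_iff.mpr hb) hx

theorem mul_eq {x y : G} (hx : x ∈ H) (hy : y ∈ H) (h : ¬ Commute x y) : x * y = z * (y * x) := by
  rcases d.cls x hx y hy with h1 | h1
  · exact absurd (commutatorElement_eq_one_iff_mul_comm.mp h1) h
  · rw [← h1, commutatorElement_def]; group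

theorem mul_commute {a b t : G} (ha : a ∈ H) (hb : b ∈ H) (ht : t ∈ H) (h1 : ¬ Commute a t)
    (h2 : ¬ Commute b t) : Commute (a * b) t := by
  have hz : Commute a z := d.comm_z ha
  show a * b * t = t * (a * b)
  rw [mul_assoc, d.mul_eq hb ht h2, ← mul_assoc a, hz.eq, mul_assoc, ← mul_assoc a,
    d.mul_eq ha ht h1, mul_assoc z (t * a), ← mul_assoc z, d.sq_one, one_mul, mul_assoc]

theorem mul_self {a b : G} (ha : a ∈ H) (hb : b ∈ H) (h : ¬ Commute a b) :
    a * b * (a * b) = z * (a * a * (b * b)) := by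
  have hba : b * a = z * (a * b) := d.mul_eq hb ha fun hc => h hc.symm
  calc a * b * (a * b) = a * (b * a) * b := by group
    _ = a * z * (a * b * b) := by rw [hba]; group
    _ = _ := by rw [(d.comm_z ha).eq]; group

/-- Elements moved by b out of C(t) are orthogonal to t when b fixes t. -/
theorem orth {b s t : G} (hb : b * z = z * b) (hs : s ∈ H) (ht : t ∈ H) (hbt : b * t = t * b) :
    Commute (b * s * b⁻¹ * s⁻¹) t := by
  have hbs := d.conj_mem hb hs
  by_cases hc : Commute s t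
  · exact ((Commute.mul_left (Commute.mul_left hbt hc) (Commute.inv_left hbt))).mul_left hc.inv_left
  refine d.mul_commute hbs (inv_mem hs) ht (fun h1 => hc ?_) (fun h1 => hc ?_)
  · have h2 := Commute.mul_left (Commute.mul_left (Commute.inv_left hbt) h1) (hbt : Commute b t)
    rwa [show b⁻¹ * (b * s * b⁻¹) * b = s by group] at h2
  · simpa using h1.inv_left

theorem eq_or {x : G} (hx : x ∈ H) (hc : ∀ y ∈ H, Commute x y) (h2 : x * x = 1) : x = 1 ∨ x = z := by
  by_cases h1 : x = 1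
  · exact Or.inl h1
  obtain ⟨k, hk⟩ := d.cen x hx hc h1
  rcases Nat.even_or_odd k with ⟨j, rfl⟩ | ⟨j, rfl⟩
  · rw [← two_mul, pow_mul, pow_two, h2, one_pow] at hk
    exact absurd hk.symm d.ne_one
  · rw [pow_succ, pow_mul, pow_two, h2, one_pow, one_mul] at hk
    exact Or.inr hk

/-- An element of order p centralising z centralises the centre. -/
theorem fix (hp : p ≠ 2) {b : G} (hb : b ^ p = 1) (hbz : b * z = z * b) :
    ∀ x ∈ H, (∀ y ∈ H, Commute x y) → Commute b x := by
  intro x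
  induction hn : orderOf x using Nat.strong_induction_on generalizing x with
  | _ N ih =>
  intro hx hc
  by_cases h1 : x = 1
  · rw [h1]; exact Commute.one_right b
  obtain ⟨m, hm⟩ := pow_card_of_mem d.two hx
  obtain ⟨j, -, hj⟩ := (Nat.dvd_prime_pow Nat.prime_two).mp (orderOf_dvd_of_pow_eq_one hm)
  have hx2 : Commute b (x * x) := by
    refine ih (orderOf (x * x)) ?_ (x * x) rfl (mul_mem hx hx) fun y hy => (hc y hy).mul_left (hc y hy)
    rw [← hn, ← pow_two, orderOf_pow' x (by norm_num)]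
    rcases j with _ | j
    · exact absurd (orderOf_eq_one_iff.mp (by rw [hj, pow_zero])) h1
    · rw [hj, show Nat.gcd (2 ^ (j + 1)) 2 = 2 by
        rw [Nat.gcd_eq_right_iff_dvd]; exact dvd_pow_self 2 (by omega)]
      exact Nat.div_lt_self (Nat.pow_pos two_pos) one_lt_two
  set k := b * x * b⁻¹ * x⁻¹ with hk
  have hbx := d.conj_mem hbz hx
  have hbxc : ∀ y ∈ H, Commute (b * x * b⁻¹) y := by
    intro y hy
    have hy' : b⁻¹ * y * b ∈ H := by
      have := d.conj_mem (b := b⁻¹) (Commute.inv_left hbz).eq hy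
      rwa [inv_inv] at this
    have h2 : Commute (b * x * b⁻¹) (b * (b⁻¹ * y * b) * b⁻¹) := (Commute.conj_iff b).mpr (hc _ hy')
    rwa [show b * (b⁻¹ * y * b) * b⁻¹ = y by group] at h2
  have hkc : ∀ y ∈ H, Commute k y := fun y hy => (hbxc y hy).mul_left (hc y hy).inv_left
  have hk2 : k * k = 1 := by
    have hcx : Commute (b * x * b⁻¹) x⁻¹ := (hbxc _ (inv_mem hx))
    rw [hk, show b * x * b⁻¹ * x⁻¹ * (b * x * b⁻¹ * x⁻¹) =
      b * x * b⁻¹ * (x⁻¹ * (b * x * b⁻¹)) * x⁻¹ by group, ← hcx.eq,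
      show b * x * b⁻¹ * (b * x * b⁻¹ * x⁻¹) * x⁻¹ = b * (x * x) * b⁻¹ * (x * x)⁻¹ by group, hx2.eq]
    group
  have hkH : k ∈ H := mul_mem hbx (inv_mem hx)
  have hbk : b * k = k * b := by
    rcases d.eq_or hkH hkc hk2 with h2 | h2 <;> rw [h2]
    · rw [mul_one, one_mul]
    · exact hbz
  have hu : b * x * b⁻¹ = k * x := by rw [hk]; group
  have hk1 : k = 1 := shift_one_two hp d.two hkH hbk hu hb
  rw [hk, mul_inv_eq_one] at hk1
  exact mul_inv_eq_iff_eq_mul.mp hk1

end Centre

/-- The centre data exist. -/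
theorem Setting.exists_centre {n : ℕ} (h : Setting p n G) {z : G} (hz : z * z = 1) (hz1 : z ≠ 1)
    {B : Subgroup G} (hB : IsElementaryAbelian p B) (hBn : Nat.card B = p ^ n)
    (hzB : B ≤ centralizer {z}) : ∃ H, Centre p z H := by
  have hz2 : IsPGroup 2 (zpowers z) := IsPGroup.of_card (n := 1) (by
    rw [Nat.card_zpowers, pow_one]; exact orderOf_eq_prime (by rwa [pow_two]) hz1)
  have : Fact (Nat.Prime 2) := ⟨Nat.prime_two⟩
  set T := normCore 2 (zpowers z) with hTdef
  have hT : IsPGroup 2 T := normCore_isPGroup 2 _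
  have hzT : z ∈ T := le_normCore 2 hz2 (mem_zpowers z)
  have hCN : centralizer {z} ≤ normalizer (T : Set G) := fun x hx =>
    normalizer_le_normalizer_normCore 2 _ (mem_normalizer_zpowers (mem_centralizer_singleton_iff.mp hx))
  have hTz : ∀ t ∈ T, t * z = z * t := fun t ht =>
    commute_of_mem_normalizer_zpowers hz (normCore_le 2 _ ht)
  have hsymp := (h.hyp hB hBn).symplecticType hT (hzB.trans hCN) fun _ hbot => hz1 (by
    have hzm : z ∈ T ⊓ centralizer (B : Set G) := ⟨hzT, mem_centralizer_iff.mpr fun b hb =>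
      mem_centralizer_singleton_iff.mp (hzB hb)⟩
    rw [hbot] at hzm
    exact mem_bot.mp hzm)
  obtain ⟨H0, hH0, hcl, h1, h2, h3⟩ := Fusion.exists_critical hT
  set H := H0.map T.subtype with hHdef
  have hzH0 : (⟨z, hzT⟩ : T) ∈ H0 :=
    h3 (mem_centralizer_iff.mpr fun y _ => Subtype.ext (hTz y y.2))
  have hZ : ((center H0).map H0.subtype).Characteristic :=
    characteristic_iff_map_le.mpr fun φ => by
      rintro _ ⟨_, ⟨u, hu, rfl⟩, rfl⟩
      refine ⟨⟨φ u, characteristic_iff_map_le.mp hH0 φ ⟨u, u.2, rfl⟩⟩, mem_center_iff.mpr fun w => ?_, rfl⟩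
      have hw : φ⁻¹ (w : T) ∈ H0 := characteristic_iff_map_le.mp hH0 φ⁻¹ ⟨w, w.2, rfl⟩
      refine Subtype.ext (φ⁻¹.injective ?_)
      show φ⁻¹ ((w : T) * φ u) = φ⁻¹ (φ u * (w : T))
      rw [map_mul, map_mul, show φ⁻¹ (φ (u : T)) = u from φ.symm_apply_apply _]
      exact congrArg Subtype.val (mem_center_iff.mp hu ⟨_, hw⟩)
  have hcyc := hsymp.2 _ hZ ⟨⟨fun a b => by
    obtain ⟨_, ⟨a, ha, rfl⟩⟩ := a
    obtain ⟨_, ⟨b, hb, rfl⟩⟩ := b
    exact Subtype.ext (congrArg Subtype.val (mem_center_iff.mp ha b)).symm⟩⟩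
  -- unique involution in the centre
  have huniq : ∀ u : T, u ∈ H0 → (∀ y ∈ H0, Commute u y) → u * u = 1 → u = 1 ∨ (u : G) = z := by
    intro u hu huc hu2
    by_cases hu1 : u = 1
    · exact Or.inl hu1
    right
    let Z0 := (center H0).map H0.subtype
    have hmem : ∀ w : T, w ∈ H0 → (∀ y ∈ H0, Commute w y) → w ∈ Z0 := fun w hw hwc =>
      ⟨⟨w, hw⟩, mem_center_iff.mpr fun y => Subtype.ext (hwc y y.2).eq.symm, rfl⟩
    have huZ := hmem u hu huc
    have hzZ := hmem ⟨z, hzT⟩ hzH0 fun y _ => Subtype.ext (hTz y y.2).symm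
    have ho : ∀ w : T, w * w = 1 → w ≠ 1 → orderOf w = 2 := fun w hw hw1 =>
      orderOf_eq_prime (by rwa [pow_two]) hw1
    have hoz : orderOf (⟨⟨z, hzT⟩, hzZ⟩ : Z0) = 2 := by
      rw [← Subgroup.orderOf_coe]; exact ho _ (Subtype.ext hz) fun h' => hz1 (congrArg Subtype.val h')
    have hou : orderOf (⟨u, huZ⟩ : Z0) = 2 := by rw [← Subgroup.orderOf_coe]; exact ho _ hu2 hu1
    by_contra hne
    have := hcyc
    classical
    have := Fintype.ofFinite Z0
    have hle := IsCyclic.card_pow_eq_one_le (α := Z0) (n := 2) two_pos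
    have hsub : ({1, ⟨⟨z, hzT⟩, hzZ⟩, ⟨u, huZ⟩} : Finset Z0) ⊆ Finset.univ.filter (fun a : Z0 => a ^ 2 = 1) := by
      intro w hw
      simp only [Finset.mem_insert, Finset.mem_singleton] at hw
      simp only [Finset.mem_filter, Finset.mem_univ, true_and]
      rcases hw with rfl | rfl | rfl
      · exact one_pow 2
      · rw [← hoz, pow_orderOf_eq_one]
      · rw [← hou, pow_orderOf_eq_one]
    have h3card : ({1, ⟨⟨z, hzT⟩, hzZ⟩, ⟨u, huZ⟩} : Finset Z0).card = 3 := by
      refine Finset.card_eq_three.mpr ⟨_, _, _, ?_, ?_, ?_, rfl⟩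
      · intro e; exact hz1 (congrArg (fun w : Z0 => ((w : T) : G)) e).symm
      · intro e; exact hu1 (congrArg Subtype.val e).symm
      · intro e; exact hne (congrArg (fun w : Z0 => ((w : T) : G)) e).symm
    have := Finset.card_le_card hsub
    omega
  have hsq : ∀ x ∈ H0, ∀ y ∈ H0, Commute (x * x) y := by
    intro x hx y hy
    have hfr : (⟨x, hx⟩ * ⟨x, hx⟩ : H0) ∈ frattini H0 := by
      rw [← pow_two]; exact Core.pow_mem_frattini (hT.to_subgroup H0) _
    exact (mem_centralizer_iff.mp (h1 ⟨_, hfr, rfl⟩) y hy).symm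
  refine ⟨H, hz, hz1, ?_, ⟨_, hzH0, rfl⟩, hT.to_le (map_subtype_le _), ?_, ?_, ?_, ?_, ?_⟩
  · rintro _ ⟨u, -, rfl⟩
    exact mem_centralizer_singleton_iff.mpr (hTz u u.2)
  · refine le_normalizer_of_conj ?_
    rintro c hc _ ⟨u, hu, rfl⟩
    exact ⟨T.normalizerMonoidHom ⟨c, hCN hc⟩ u, characteristic_iff_le_comap.mp hH0 _ hu, rfl⟩
  · rintro _ ⟨x, hx, rfl⟩ _ ⟨y, hy, rfl⟩
    have hc : ∀ w ∈ H0, Commute ⁅x, y⁆ w := by
      intro w hw
      have hcen : ⁅(⟨x, hx⟩ : H0), ⟨y, hy⟩⁆ ∈ center H0 :=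
        hcl (commutator_mem_commutator (mem_top _) (mem_top _))
      exact (congrArg Subtype.val (mem_center_iff.mp hcen ⟨w, hw⟩) : w * ⁅x, y⁆ = ⁅x, y⁆ * w).symm
    have h22 : ⁅x, y⁆ * ⁅x, y⁆ = 1 := by
      have hx2 : Commute (x * x) y := hsq x hx y hy
      have : ⁅x * x, y⁆ = ⁅x, y⁆ * ⁅x, y⁆ := by
        calc ⁅x * x, y⁆ = x * ⁅x, y⁆ * x⁻¹ * ⁅x, y⁆ := by simp only [commutatorElement_def]; group
          _ = _ := by rw [← (hc x hx).eq, mul_inv_cancel_right]
      rw [← this, commutatorElement_eq_one_iff_mul_comm]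
      exact hx2
    rcases huniq _ (commutator_le_self H0 (commutator_mem_commutator hx hy)) hc h22 with h' | h'
    · exact Or.inl (by rw [← map_commutatorElement, h', map_one])
    · exact Or.inr (by rw [← map_commutatorElement]; exact h')
  · rintro _ ⟨x, hx, rfl⟩ _ ⟨y, hy, rfl⟩
    rw [← map_mul]
    exact (hsq x hx y hy).map _
  · rintro _ ⟨x, hx, rfl⟩ hc hx1
    have hxc : ∀ y ∈ H0, Commute x y := fun y hy => Subtype.ext (hc _ ⟨y, hy, rfl⟩)
    obtain ⟨m, hm⟩ := hT x
    obtain ⟨j, -, hj⟩ := (Nat.dvd_prime_pow Nat.prime_two).mp (orderOf_dvd_of_pow_eq_one hm)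
    rcases j with _ | j
    · have hx1' : x = 1 := orderOf_eq_one_iff.mp (by rw [hj, pow_zero])
      exact absurd (by rw [hx1', map_one]) hx1
    refine ⟨2 ^ j, ?_⟩
    rcases huniq (x ^ 2 ^ j) (pow_mem hx _) (fun y hy => (hxc y hy).pow_left _)
      (by rw [← pow_add, ← two_mul, ← pow_succ', ← hj, pow_orderOf_eq_one]) with h' | h'
    · exact absurd h' (pow_ne_one_of_lt_orderOf (by positivity)
        (by rw [hj]; exact Nat.pow_lt_pow_right one_lt_two (by omega)))
    · rw [← map_pow]; exact h'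
  · intro b hb hbz hbH
    have hbN : b ∈ normalizer (zpowers z : Set G) := mem_normalizer_zpowers hbz
    set a := T.normalizerMonoidHom ⟨b, hCN (mem_centralizer_singleton_iff.mpr hbz)⟩ with hadef
    have haord : Nat.Coprime (orderOf a) 2 := by
      refine Nat.Coprime.coprime_dvd_left (orderOf_dvd_of_pow_eq_one (n := p) ?_)
        ((Nat.coprime_primes Fact.out Nat.prime_two).mpr h.odd)
      rw [hadef, ← map_pow]
      convert map_one T.normalizerMonoidHom using 2
      exact Subtype.ext hb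
    have ha1 : a = 1 := Cfsg.Agent.S0121.result hT H0 hH0 h1 h2 h3 a haord fun x hx => by
      refine Subtype.ext ?_
      show b * (x : G) * b⁻¹ = x
      have hbx : b * (x : G) = (x : G) * b := (hbH _ ⟨x, hx, rfl⟩).eq
      rw [hbx, mul_inv_cancel_right]
    refine eq_one_of_pow h.odd hT (mem_normCore_of_centralizes (h.char2.2 _ hz2 ?_) hbN fun t ht => ?_) hb
    · simpa using hz1
    · have := congrArg (fun f : MulAut T => ((f ⟨t, ht⟩ : T) : G)) ha1
      exact mul_inv_eq_iff_eq_mul.mp this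

end Cfsg.Agent.KlingerMason
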