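import Cfsg.Agent.KlingerMason.Pair

/-!
# The Klinger-Mason theorem

A group of characteristic 2 type and local characteristic p, p odd, has 2-local p-rank at most 2.
-/

set_option autoImplicit false
set_option linter.unusedSectionVars false

open Subgroup
open scoped commutatorElement

namespace Cfsg.Agent.KlingerMason

variable {G : Type*} [Group G] [Finite G] {p n : ℕ} [Fact p.Prime]

theorem eq_or_of_mem_zpowers {a e : G} (ha : a * a = 1) (he : e ∈ zpowers a) : e = 1 ∨ e = a := by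
  obtain ⟨i, rfl⟩ := mem_zpowers_iff.mp he
  rcases Int.even_or_odd i with ⟨k, rfl⟩ | ⟨k, rfl⟩
  · left; rw [← two_mul, zpow_mul, zpow_two, ha, one_zpow]
  · right; rw [zpow_add, zpow_mul, zpow_two, ha, one_zpow, one_mul, zpow_one]

/-- In the setting, an involution of an elementary group in C(A) inverts an element of the core fixed by
a complement. -/
theorem Setting.inverted_weight (h : Setting p n G) {A V : Subgroup G} (hA : IsElementaryAbelian p A)
    (hA1 : A ≠ ⊥) (hV : IsElementaryAbelian 2 V) (hVA : V ≤ centralizer (A : Set G)) {z : G} (hz : z ∈ V)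
    (hz1 : z ≠ 1) :
    ∃ K ≤ centCore p A, Small p K ∧
      (∀ c ∈ centralizer (A : Set G), ∀ k ∈ K, c * k * c⁻¹ ∈ K) ∧
      ∃ U ≤ V, z ∉ U ∧ U ⊔ zpowers z = V ∧
        ∃ x ∈ K, x ≠ 1 ∧ z * x * z⁻¹ = x⁻¹ ∧ ∀ u ∈ U, u * x = x * u := by
  have : Fact (Nat.Prime 2) := ⟨Nat.prime_two⟩
  obtain ⟨K, hKR, hK, hKn, hKfix⟩ := exists_small h.odd (centCore_isPGroup (p := p) A)
  have hcR := centralizer_le_normalizer_centCore (p := p) A
  have hVK : V ≤ normalizer (K : Set G) :=
    le_normalizer_of_conj fun a ha k hk => hKn a (hcR (hVA ha)) k hk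
  have hzz := pow_two_mul (hV.2 z hz)
  have hmv : ¬ K ≤ centralizer {z} := by
    intro hle
    have hord : (orderOf z).Coprime p := by
      rw [orderOf_eq_prime (hV.2 z hz) hz1]
      exact (Nat.coprime_primes Nat.prime_two Fact.out).mpr (Ne.symm h.odd)
    have hzR := self_of_charP h.charP (Coprime.ea_isPGroup hA) hA1 z (hVA hz)
      (hKfix z (hcR (hVA hz)) hord fun k hk => (mem_centralizer_singleton_iff.mp (hle hk)).symm)
    exact hz1 (eq_one_of_both h.odd (centCore_isPGroup A) (IsPGroup.of_card (n := 1) (by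
      rw [Nat.card_zpowers, pow_one]; exact orderOf_eq_prime (hV.2 z hz) hz1)) hzR (mem_zpowers z))
  obtain ⟨U, hUV, hzU, hsup, x, hx, hUx, hzx⟩ :=
    exists_weight hV hVK (hK.not_dvd Nat.prime_two h.odd) hz hmv
  obtain ⟨y, hy, hy1, hyi, hUy⟩ := exists_inverted hzz hx (mem_centralizer_of_le_normalizer hVK hz hx) hzx
    fun u hu => ⟨hUx u hu, Coprime.ea_comm hV (hUV hu) hz⟩
  exact ⟨K, hKR, hK, fun c hc k hk => hKn c (hcR hc) k hk, U, hUV, hzU, hsup, y, hy, hy1, hyi, hUy⟩

theorem mem_or_mul_mem {V U : Subgroup G} {z : G} (hV : IsElementaryAbelian 2 V) (hUV : U ≤ V)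
    (hz : z ∈ V) (hsup : U ⊔ zpowers z = V) {v : G} (hv : v ∈ V) : ∃ v' ∈ U, v' = v ∨ v' = v * z := by
  have hn : zpowers z ≤ normalizer (U : Set G) := le_normalizer_of_conj fun e he f hf => by
    rw [show e * f = f * e from Coprime.ea_comm hV (zpowers_le.mpr hz he) (hUV hf), mul_inv_cancel_right]
    exact hf
  obtain ⟨u, hu, r, hr, rfl⟩ := (Coprime.mem_sup_of_le_normalizer hn).mp (hsup.symm ▸ hv)
  rcases eq_or_of_mem_zpowers (pow_two_mul (hV.2 z hz)) hr with rfl | rfl
  · exact ⟨u, hu, Or.inl (mul_one u).symm⟩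
  · exact ⟨u, hu, Or.inr (by rw [mul_assoc, pow_two_mul (hV.2 _ hz), mul_one])⟩

theorem ea_zpowers_two {z : G} (hz : z * z = 1) : IsElementaryAbelian 2 (zpowers z) := by
  have : Fact (Nat.Prime 2) := ⟨Nat.prime_two⟩
  exact Thompson.ea_zpowers (by rw [pow_two]; exact hz)

theorem ea_sup_zpowers {q : ℕ} [Fact q.Prime] {E : Subgroup G} (hE : IsElementaryAbelian q E) {x : G}
    (hx : x ^ q = 1) (hc : ∀ e ∈ E, e * x = x * e) : IsElementaryAbelian q (E ⊔ zpowers x) :=
  Thompson.ea_sup hE (Thompson.ea_zpowers hx) fun y hy => mem_centralizer_iff.mpr fun e he => by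
    obtain ⟨i, rfl⟩ := mem_zpowers_iff.mp he
    exact ((Commute.zpow_right (hc y hy) i).eq).symm

/-- For a hyperplane A, an involution of C_H(A) other than z has abelian centraliser there. -/
theorem Setting.hyperplane_contra (h : Setting p n G) {z : G} {H : Subgroup G} (d : Centre p z H)
    {A : Subgroup G} (hA : IsElementaryAbelian p A) (hAn : Nat.card A = p ^ (n - 1))
    (hAz : A ≤ centralizer {z}) {v : G} (hv : v ∈ H) (hvA : v ∈ centralizer (A : Set G))
    (hv2 : v * v = 1) (hv1 : v ≠ 1) (hvz : v ≠ z) {q1 q2 : G} (h1 : q1 ∈ H)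
    (h1A : q1 ∈ centralizer (A : Set G)) (h1v : Commute q1 v) (h2 : q2 ∈ H)
    (h2A : q2 ∈ centralizer (A : Set G)) (h2v : Commute q2 v) (hne : ¬ Commute q1 q2) : False := by
  have : Fact (Nat.Prime 2) := ⟨Nat.prime_two⟩
  have hp := h.odd
  have hn := h.rank
  have hA1 : A ≠ ⊥ := by
    intro hb
    rw [hb, card_bot] at hAn
    exact (Nat.one_lt_pow (by omega) (Fact.out : p.Prime).one_lt).ne hAn
  have hzA : z ∈ centralizer (A : Set G) :=
    mem_centralizer_iff.mpr fun a ha => mem_centralizer_singleton_iff.mp (hAz ha)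
  have hV : IsElementaryAbelian 2 (zpowers z ⊔ zpowers v) := ea_sup_zpowers (ea_zpowers_two d.sq_one)
    (by rw [pow_two]; exact hv2) fun e he => (commute_of_mem_zpowers he (d.comm_z hv)).eq.symm
  obtain ⟨K, hKR, hK, hKc, U, hUV, hzU, hsup, x, hx, hx1, hxi, hUx⟩ := h.inverted_weight hA hA1 hV
    (sup_le (zpowers_le.mpr hzA) (zpowers_le.mpr hvA)) (mem_sup_left (mem_zpowers z)) d.ne_one
  obtain ⟨v', hv'U, hv'⟩ := mem_or_mul_mem hV hUV (mem_sup_left (mem_zpowers z)) hsup
    (mem_sup_right (mem_zpowers v))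
  obtain ⟨hv'H, hv'2, hv'A, hq1, hq2, hv'1, hv'z⟩ : v' ∈ H ∧ v' * v' = 1 ∧
      v' ∈ centralizer (A : Set G) ∧ Commute q1 v' ∧ Commute q2 v' ∧ v' ≠ 1 ∧ v' ≠ z := by
    rcases hv' with rfl | rfl
    · exact ⟨hv, hv2, hvA, h1v, h2v, hv1, hvz⟩
    · refine ⟨mul_mem hv d.mem, ?_, mul_mem hvA hzA, h1v.mul_right (d.comm_z h1),
        h2v.mul_right (d.comm_z h2), fun e => hvz ?_, fun e => hv1 (mul_eq_right.mp e)⟩
      · rw [(d.comm_z hv).symm.mul_mul_mul_comm, hv2, d.sq_one, one_mul]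
      · rw [eq_inv_of_mul_eq_one_left e, d.inv_eq]
  obtain ⟨h0, hh0, hh0v⟩ : ∃ h0 ∈ H, ¬ Commute v' h0 := by
    by_contra hall
    push Not at hall
    rcases d.eq_or hv'H hall hv'2 with e | e
    · exact hv'1 e
    · exact hv'z e
  have u : Duo p z v' H A x := ⟨d, hv'H, hv'2, hv'A, ⟨h0, hh0, hh0v⟩, hA, hA1, hAz, hzA, hKR hx,
    hK.exp x hx, hx1, (hUx v' hv'U).symm, hxi⟩
  obtain ⟨hE, hcE⟩ := ea_extend hA u.xp (fun a ha => u.xA ha) (u.x_not_mem hp)
  have key : ∀ g ∈ H, g ∈ centralizer (A : Set G) → Commute g v' → g * x * g⁻¹ ∈ zpowers x := by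
    intro g hg hgA hgv
    set y := g * x * g⁻¹ with hy
    have hyK : y ∈ K := hKc g hgA x hx
    have hxy : Commute x y := u.comm_eq_one h hK hKR hx hg hgv.eq hgA hyK
    have hyA : ∀ a ∈ A, a * y = y * a := fun a ha => mem_centralizer_iff.mp (centCore_le A (hKR hyK)) a ha
    have hyE : y ∈ A ⊔ zpowers x := by
      by_contra hyE
      obtain ⟨hE2, hc2⟩ := ea_extend hE (hK.exp y hyK) (fun e he => mem_centralizer_singleton_iff.mp
        ((sup_le (fun a ha => mem_centralizer_singleton_iff.mpr (hyA a ha))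
          (zpowers_le.mpr (mem_centralizer_singleton_iff.mpr hxy.eq)) :
            A ⊔ zpowers x ≤ centralizer {y}) he)) hyE
      have hyv : y * v' = v' * y :=
        ((Commute.mul_left (Commute.mul_left hgv u.xv) (Commute.inv_left hgv))).eq
      have hb := rank_contra h.bound (by rw [pow_two]; exact hv'2) hv'1 hE2 (sup_le (sup_le
        (fun a ha => mem_centralizer_singleton_iff.mpr (u.Av ha))
        (zpowers_le.mpr (mem_centralizer_singleton_iff.mpr u.xv)))
        (zpowers_le.mpr (mem_centralizer_singleton_iff.mpr hyv)))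
      have : p ^ n * p ≤ p ^ n := by
        calc p ^ n * p = p * (p * p ^ (n - 1)) := by
              rw [← pow_succ', mul_comm, show n - 1 + 1 = n by omega]
          _ ≤ p * Nat.card ↥(A ⊔ zpowers x) := Nat.mul_le_mul_left _ (hAn ▸ hcE)
          _ ≤ _ := hc2.trans hb
      exact absurd this (not_le.mpr (lt_mul_of_one_lt_right (Nat.pow_pos (Fact.out : p.Prime).pos)
        (Fact.out : p.Prime).one_lt))
    have hxn : zpowers x ≤ normalizer (A : Set G) := le_normalizer_of_conj fun e he a ha => by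
      rw [← (commute_of_mem_zpowers he (u.xA ha)).eq, mul_inv_cancel_right]; exact ha
    obtain ⟨a, ha, r, hr, har⟩ := (Coprime.mem_sup_of_le_normalizer hxn).mp hyE
    have hyz : z * y * z⁻¹ = y⁻¹ := by
      calc z * y * z⁻¹ = (z * g) * x * (z * g)⁻¹ := by rw [hy]; group
        _ = g * (z * x * z⁻¹) * g⁻¹ := by rw [← (d.comm_z hg).eq]; group
        _ = _ := by rw [hxi, hy]; group
    suffices a = 1 by rw [← har, this, one_mul]; exact hr
    have haz : a * z = z * a := mem_centralizer_singleton_iff.mp (hAz ha)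
    obtain ⟨i, rfl⟩ := mem_zpowers_iff.mp hr
    have hzy : z * y * z⁻¹ = a * (x ^ i)⁻¹ := by
      rw [← har, show z * (a * x ^ i) * z⁻¹ = (z * a * z⁻¹) * (z * x * z⁻¹) ^ i by rw [conj_zpow]; group,
        ← haz, mul_inv_cancel_right, hxi, inv_zpow]
    rw [hyz, ← har, mul_inv_rev, ← (Commute.zpow_right (u.xA ha) i).inv_right.inv_left.eq,
      mul_left_inj, inv_eq_iff_mul_eq_one] at hzy
    have h2 : orderOf a ∣ 2 := orderOf_dvd_of_pow_eq_one (by rw [pow_two]; exact hzy)
    exact orderOf_eq_one_iff.mp (Nat.eq_one_of_dvd_coprimes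
      ((Nat.coprime_primes Fact.out Nat.prime_two).mpr hp) (orderOf_dvd_of_pow_eq_one (hA.2 a ha)) h2)
  obtain ⟨i, hi⟩ := mem_zpowers_iff.mp (key q1 h1 h1A hq1)
  obtain ⟨j, hj⟩ := mem_zpowers_iff.mp (key q2 h2 h2A hq2)
  have e12 : (q1 * q2) * x * (q1 * q2)⁻¹ = x ^ (i * j) := by
    calc (q1 * q2) * x * (q1 * q2)⁻¹ = q1 * (q2 * x * q2⁻¹) * q1⁻¹ := by group
      _ = _ := by rw [← hj, ← conj_zpow, ← hi, ← zpow_mul]
  have e21 : (q2 * q1) * x * (q2 * q1)⁻¹ = x ^ (i * j) := by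
    calc (q2 * q1) * x * (q2 * q1)⁻¹ = q2 * (q1 * x * q1⁻¹) * q2⁻¹ := by group
      _ = _ := by rw [← hi, ← conj_zpow, ← hj, ← zpow_mul, mul_comm]
  have hzfix : z * x ^ (i * j) * z⁻¹ = x ^ (i * j) := by
    conv_rhs => rw [← e12, d.mul_eq h1 h2 hne]
    rw [← e21]; group
  have hne1 : x ^ (i * j) ≠ 1 := by
    rw [← e12]
    exact fun e => hx1 (conj_eq_one_iff.mp e)
  refine inverted_ne hp (v := z) (y := x ^ (i * j)) ?_ hne1 ?_ (mul_inv_eq_iff_eq_mul.mp hzfix)
  · rw [← zpow_natCast, ← zpow_mul, mul_comm, zpow_mul, zpow_natCast, u.xp, one_zpow]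
  · rw [← conj_zpow, hxi, inv_zpow]

theorem ab_sup {X Y : Subgroup G} (hX : X ≤ centralizer (X : Set G)) (hY : Y ≤ centralizer (Y : Set G))
    (hXY : Y ≤ centralizer (X : Set G)) :
    X ⊔ Y ≤ centralizer ((X ⊔ Y : Subgroup G) : Set G) :=
  sup_le (le_centralizer_iff.mp (sup_le hX hXY))
    (le_centralizer_iff.mp (sup_le (le_centralizer_iff.mp hXY) hY))

theorem ab_zpowers (t : G) : zpowers t ≤ centralizer (zpowers t : Set G) := fun e he =>
  mem_centralizer_iff.mpr fun f hf =>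
    (commute_of_mem_zpowers hf (commute_of_mem_zpowers he (Commute.refl t)).symm).eq.symm

namespace Centre

variable {z : G} {H : Subgroup G} (d : Centre p z H)
include d

/-- An abelian subgroup of H is bounded by its involutions and the centre. -/
theorem abelian_card {Y : Subgroup G} (hYH : Y ≤ H) (hY : Y ≤ centralizer (Y : Set G)) {k : ℕ}
    (hk : ∀ V ≤ Y, IsElementaryAbelian 2 V → Nat.card V ≤ k) :
    Nat.card Y ≤ k * Nat.card ↥(H ⊓ centralizer (H : Set G)) := by
  have hc : ∀ a b : Y, Commute (a : G) b := fun a b => (mem_centralizer_iff.mp (hY a.2) _ b.2).symm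
  let f : Y →* ↥(H ⊓ centralizer (H : Set G)) :=
    MonoidHom.mk' (fun y => ⟨(y : G) * y, mul_mem (hYH y.2) (hYH y.2),
      mem_centralizer_iff.mpr fun e he => (d.sq y (hYH y.2) e he).eq.symm⟩) fun a b => by
      apply Subtype.ext
      show (a : G) * b * (a * b) = (a * a) * (b * b)
      exact (hc b a).mul_mul_mul_comm _ _
  rw [← card_mul_index f.ker, index_ker]
  refine Nat.mul_le_mul ?_ (card_le_card_group _)
  rw [← card_map_of_injective (K := f.ker) Y.subtype_injective]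
  refine hk _ (map_subtype_le _) ⟨⟨⟨?_⟩⟩, ?_⟩
  · rintro ⟨_, a, -, rfl⟩ ⟨_, b, -, rfl⟩
    exact Subtype.ext (hc a b).eq
  · rintro _ ⟨a, ha, rfl⟩
    rw [pow_two]
    exact congrArg Subtype.val (MonoidHom.mem_ker.mp ha)

/-- Centralisers in subgroups of H have index at most 2. -/
theorem card_le_two_mul {X : Subgroup G} (hX : X ≤ H) {t : G} (ht : t ∈ H) :
    Nat.card X ≤ 2 * Nat.card ↥(X ⊓ centralizer {t}) := by
  classical
  by_cases hall : ∀ x ∈ X, Commute x t
  · rw [show X ⊓ centralizer {t} = X from inf_eq_left.mpr fun x hx =>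
      mem_centralizer_singleton_iff.mpr (hall x hx)]
    omega
  push Not at hall
  obtain ⟨x0, hx0, hx0t⟩ := hall
  have hC : ∀ x : X, ¬ Commute (x : G) t → (x : G) * x0⁻¹ ∈ X ⊓ centralizer {t} := fun x hx =>
    ⟨X.mul_mem x.2 (X.inv_mem hx0), mem_centralizer_singleton_iff.mpr (d.mul_commute (hX x.2)
      (inv_mem (hX hx0)) ht hx fun h' => hx0t (by simpa using h'.inv_left)).eq⟩
  let f : X → ↥(X ⊓ centralizer {t}) × Bool := fun x =>
    if hx : Commute (x : G) t then (⟨x, x.2, mem_centralizer_singleton_iff.mpr hx.eq⟩, false)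
    else (⟨_, hC x hx⟩, true)
  have hf : Function.Injective f := by
    intro a b hab
    by_cases ha : Commute (a : G) t <;> by_cases hb : Commute (b : G) t <;>
      simp only [f, dif_pos, dif_neg, ha, hb, not_false_eq_true, Prod.mk.injEq, Subtype.mk.injEq,
        Bool.false_eq_true, and_false, and_true, reduceCtorEq] at hab
    · exact Subtype.ext (congrArg (fun c : ↥(X ⊓ centralizer {t}) => (c : G)) hab)
    · exact Subtype.ext (mul_right_cancel hab)
  refine (Nat.card_le_card_of_injective f hf).trans ?_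
  rw [Nat.card_prod, mul_comm, show Nat.card Bool = 2 by simp]

end Centre

/-- A set of fewer than p cosets is fixed by an element of order p. -/
theorem coset_fixed {S L : Subgroup G} (hLS : L ≤ S) {b : G} (hb : b ^ p = 1)
    (hbS : ∀ s ∈ S, b * s * b⁻¹ ∈ S) (hbL : ∀ l ∈ L, b * l * b⁻¹ ∈ L) (hcard : Nat.card S < p * Nat.card L)
    {s : G} (hs : s ∈ S) : s⁻¹ * (b * s * b⁻¹) ∈ L := by
  have hpowS : ∀ (k : ℕ), ∀ t ∈ S, b ^ k * t * (b ^ k)⁻¹ ∈ S := by
    intro k
    induction k with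
    | zero => intro t ht; simpa using ht
    | succ k ih =>
      intro t ht
      have := hbS _ (ih t ht)
      rw [pow_succ']
      rwa [show b * (b ^ k * t * (b ^ k)⁻¹) * b⁻¹ = b * b ^ k * t * (b * b ^ k)⁻¹ by group] at this
  have hpowL : ∀ (k : ℕ), ∀ t ∈ L, b ^ k * t * (b ^ k)⁻¹ ∈ L := by
    intro k
    induction k with
    | zero => intro t ht; simpa using ht
    | succ k ih =>
      intro t ht
      have := hbL _ (ih t ht)
      rw [pow_succ']
      rwa [show b * (b ^ k * t * (b ^ k)⁻¹) * b⁻¹ = b * b ^ k * t * (b * b ^ k)⁻¹ by group] at this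
  let P : ℕ → Prop := fun k => s⁻¹ * (b ^ k * s * (b ^ k)⁻¹) ∈ L
  have hadd : ∀ k l, P k → P l → P (k + l) := by
    intro k l hk hl
    have := mul_mem hk (hpowL k _ hl)
    show s⁻¹ * (b ^ (k + l) * s * (b ^ (k + l))⁻¹) ∈ L
    rw [pow_add]
    rwa [show s⁻¹ * (b ^ k * s * (b ^ k)⁻¹) * (b ^ k * (s⁻¹ * (b ^ l * s * (b ^ l)⁻¹)) * (b ^ k)⁻¹) =
      s⁻¹ * (b ^ k * b ^ l * s * (b ^ k * b ^ l)⁻¹) by group] at this
  have hmul : ∀ k, P k → ∀ m, P (k * m) := by
    intro k hk m
    induction m with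
    | zero => simp [P]
    | succ m ih => rw [Nat.mul_succ]; exact hadd _ _ ih hk
  suffices ∃ k, 0 < k ∧ k < p ∧ P k by
    obtain ⟨k, hk0, hkp, hk⟩ := this
    obtain ⟨m, -, hm⟩ := Nat.exists_mul_mod_eq_one_of_coprime
      ((Fact.out : p.Prime).coprime_iff_not_dvd.mpr (Nat.not_dvd_of_pos_of_lt hk0 hkp)).symm
      (Fact.out : p.Prime).one_lt
    have h1 := hmul k hk m
    have hbk : b ^ (k * m) = b := by
      rw [← Nat.mod_add_div (k * m) p, pow_add, hm, pow_one, pow_mul, hb, one_pow, mul_one]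
    simpa [P, hbk] using h1
  classical
  let f : Fin p → S ⧸ L.subgroupOf S := fun i =>
    QuotientGroup.mk (⟨b ^ (i : ℕ) * s * (b ^ (i : ℕ))⁻¹, hpowS i s hs⟩ : S)
  have hq : Nat.card (S ⧸ L.subgroupOf S) < p := by
    have e := card_mul_index (L.subgroupOf S)
    rw [Nat.card_congr (subgroupOfEquivOfLe hLS).toEquiv] at e
    have : Nat.card L * (L.subgroupOf S).index < Nat.card L * p := by
      rw [e, mul_comm (Nat.card L) p]; exact hcard
    exact Nat.lt_of_mul_lt_mul_left this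
  have hni : ¬ Function.Injective f := fun hf => by
    have := Nat.card_le_card_of_injective f hf
    rw [Nat.card_fin] at this
    omega
  rw [Function.not_injective_iff] at hni
  obtain ⟨i, j, hij, hne⟩ := hni
  wlog hlt : (i : ℕ) < j generalizing i j
  · exact this j i hij.symm (Ne.symm hne) (by have := Fin.val_ne_of_ne hne; omega)
  refine ⟨(j : ℕ) - i, by omega, by omega, ?_⟩
  have hij' : (QuotientGroup.mk (⟨b ^ (i : ℕ) * s * (b ^ (i : ℕ))⁻¹, hpowS i s hs⟩ : S) : S ⧸ L.subgroupOf S) =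
      QuotientGroup.mk (⟨b ^ (j : ℕ) * s * (b ^ (j : ℕ))⁻¹, hpowS j s hs⟩ : S) := hij
  have h1 : (b ^ (i : ℕ) * s * (b ^ (i : ℕ))⁻¹)⁻¹ * (b ^ (j : ℕ) * s * (b ^ (j : ℕ))⁻¹) ∈ L :=
    mem_subgroupOf.mp (QuotientGroup.eq.mp hij')
  have h2 := hpowL (p - (i : ℕ)) _ h1
  have hbi : b ^ (p - (i : ℕ)) = (b ^ (i : ℕ))⁻¹ :=
    eq_inv_of_mul_eq_one_left (by rw [← pow_add, Nat.sub_add_cancel i.2.le, hb])
  have hbj : b ^ (j : ℕ) = b ^ (i : ℕ) * b ^ ((j : ℕ) - i) := by rw [← pow_add, Nat.add_sub_cancel' hlt.le]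
  rw [hbi, hbj] at h2
  show s⁻¹ * (b ^ ((j : ℕ) - i) * s * (b ^ ((j : ℕ) - i))⁻¹) ∈ L
  rwa [show (b ^ (i : ℕ))⁻¹ * ((b ^ (i : ℕ) * s * (b ^ (i : ℕ))⁻¹)⁻¹ *
      (b ^ (i : ℕ) * b ^ ((j : ℕ) - i) * s * (b ^ (i : ℕ) * b ^ ((j : ℕ) - i))⁻¹)) * ((b ^ (i : ℕ))⁻¹)⁻¹ =
    s⁻¹ * (b ^ ((j : ℕ) - i) * s * (b ^ ((j : ℕ) - i))⁻¹) by group] at h2

/-- For p at least 5 nothing in C_H(A) is moved. -/
theorem Setting.large_contra (h : Setting p n G) (hp5 : 5 ≤ p) {z : G} {H : Subgroup G}
    (d : Centre p z H) {B A : Subgroup G} (hB : IsElementaryAbelian p B) (hBn : Nat.card B = p ^ n)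
    (hBz : B ≤ centralizer {z}) (hAB : A ≤ B) (hAn : Nat.card A = p ^ (n - 1)) {b : G} (hb : b ∈ B)
    {s : G} (hs : s ∈ H) (hsA : s ∈ centralizer (A : Set G)) : Commute b s := by
  have : Fact (Nat.Prime 2) := ⟨Nat.prime_two⟩
  have hp := h.odd
  have hbz : b * z = z * b := mem_centralizer_singleton_iff.mp (hBz hb)
  have hbp : b ^ p = 1 := hB.2 b hb
  set Z := H ⊓ centralizer (H : Set G) with hZdef
  set S := H ⊓ centralizer (A : Set G) with hSdef
  have hZc : ∀ {ζ : G}, ζ ∈ Z → ∀ e ∈ H, Commute ζ e := fun hζ e he =>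
    (mem_centralizer_iff.mp hζ.2 e he).symm
  have hbfix : ∀ {c : G}, c ∈ B → ∀ {ζ : G}, ζ ∈ Z → Commute c ζ := fun hc ζ hζ =>
    d.fix hp (hB.2 _ hc) (mem_centralizer_singleton_iff.mp (hBz hc)) _ hζ.1 (hZc hζ)
  have hZS : Z ≤ S := fun ζ hζ =>
    ⟨hζ.1, mem_centralizer_iff.mpr fun a ha => (hbfix (hAB ha) hζ).eq⟩
  have hbS : ∀ t ∈ S, b * t * b⁻¹ ∈ S := fun t ht => ⟨d.conj_mem hbz ht.1,
    (centralizer _).mul_mem ((centralizer _).mul_mem
      (mem_centralizer_iff.mpr fun a ha => Coprime.ea_comm hB (hAB ha) hb) ht.2)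
      ((centralizer _).inv_mem (mem_centralizer_iff.mpr fun a ha => Coprime.ea_comm hB (hAB ha) hb))⟩
  have hE4 : ∀ V ≤ S, IsElementaryAbelian 2 V → Nat.card V ≤ 4 := by
    intro V hVS hV
    obtain ⟨m, hm⟩ := Coprime.ea_card hV
    have hm2 : m ≤ 2 := by
      by_contra hm3
      exact (h.hyp hB hBn).no_eight hAB hAn hV (hm ▸ (show 2 ^ 3 ≤ 2 ^ m from
        Nat.pow_le_pow_right two_pos (by omega))) (hVS.trans inf_le_right)
    exact hm ▸ (Nat.pow_le_pow_right two_pos hm2)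
  have hS4 : ∀ Y ≤ S, Y ≤ centralizer (Y : Set G) → Nat.card Y ≤ 4 * Nat.card Z := fun Y hYS hY =>
    d.abelian_card (hYS.trans inf_le_left) hY fun V hV hVea => hE4 V (hV.trans hYS) hVea
  have hZpos : 0 < Nat.card Z := Nat.card_pos
  -- trivial on small quotients
  have level : ∀ X L : Subgroup G, L ≤ X → X ≤ H → (∀ t ∈ X, b * t * b⁻¹ ∈ X) →
      (∀ t ∈ L, b * t * b⁻¹ ∈ L) → Nat.card X ≤ 4 * Nat.card L → (∀ l ∈ L, Commute b l) →
      (∀ l ∈ L, ∀ t ∈ X, Commute l t) → ∀ t ∈ X, Commute b t := by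
    intro X L hLX hXH hbX hbL hcard hLb hLX' t ht
    have hpos : 0 < Nat.card L := Nat.card_pos
    have hk := coset_fixed hLX hbp hbX hbL (by nlinarith) ht
    have hk1 := shift_one_two hp d.two (hXH (hLX hk)) (hLb _ hk).eq (u := t)
      (by rw [(hLX' _ hk t ht).eq]; group) hbp
    rw [inv_mul_eq_one] at hk1
    exact mul_inv_eq_iff_eq_mul.mp hk1.symm
  have hSH : S ≤ H := inf_le_left
  have fromZ : Nat.card S ≤ 4 * Nat.card Z → Commute b s := fun hc =>
    level S Z hZS hSH hbS (fun ζ hζ => by rw [(hbfix hb hζ).eq, mul_inv_cancel_right]; exact hζ) hc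
      (fun ζ hζ => hbfix hb hζ) (fun ζ hζ t ht => hZc hζ t ht.1) s ⟨hs, hsA⟩
  by_cases hab : S ≤ centralizer (S : Set G)
  · exact fromZ (hS4 S le_rfl hab)
  by_cases hinv : ∃ v ∈ S, v * v = 1 ∧ v ≠ 1 ∧ v ≠ z
  · obtain ⟨v, hvS, hv2, hv1, hvz⟩ := hinv
    set C := S ⊓ centralizer {v} with hCdef
    have hC : C ≤ centralizer (C : Set G) := by
      intro a ha
      refine mem_centralizer_iff.mpr fun c hc => ?_
      by_contra hne
      exact h.hyperplane_contra d (Coprime.ea_mono hB hAB) hAn (hAB.trans hBz) hvS.1 hvS.2 hv2 hv1 hvz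
        hc.1.1 hc.1.2 (mem_centralizer_singleton_iff.mp hc.2) ha.1.1 ha.1.2
        (mem_centralizer_singleton_iff.mp ha.2) hne
    obtain ⟨s0, hs0, hs0v⟩ : ∃ s0 ∈ S, ¬ Commute s0 v := by
      by_contra hall
      push Not at hall
      refine hab fun a ha => mem_centralizer_iff.mpr fun c hc => ?_
      exact mem_centralizer_iff.mp (hC ⟨ha, mem_centralizer_singleton_iff.mpr (hall a ha).eq⟩) c
        ⟨hc, mem_centralizer_singleton_iff.mpr (hall c hc).eq⟩
    set L := S ⊓ centralizer (S : Set G) with hLdef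
    have hCL : C ⊓ centralizer {s0} ≤ L := by
      rintro t ⟨ht, hts⟩
      refine ⟨ht.1, mem_centralizer_iff.mpr fun c hc => ?_⟩
      by_cases hcv : Commute c v
      · exact mem_centralizer_iff.mp (hC ht) c ⟨hc, mem_centralizer_singleton_iff.mpr hcv.eq⟩
      · have h1 : c * s0 ∈ C := ⟨mul_mem hc hs0,
          mem_centralizer_singleton_iff.mpr (d.mul_commute hc.1 hs0.1 hvS.1 hcv hs0v).eq⟩
        have h2 : Commute (c * s0) t := mem_centralizer_iff.mp (hC ht) _ h1
        have h3 : Commute s0 t := (mem_centralizer_singleton_iff.mp hts : Commute t s0).symm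
        have := h2.mul_left h3.inv_left
        rwa [mul_inv_cancel_right] at this
    have hcard : Nat.card S ≤ 4 * Nat.card L := by
      have h1 := d.card_le_two_mul hSH hvS.1
      have h2 := d.card_le_two_mul (X := C) (inf_le_left.trans hSH) hs0.1
      have h3 := Subgroup.card_le_of_le hCL
      simp only [hCdef] at h2 h3 ⊢
      omega
    have hbLS : ∀ t ∈ L, b * t * b⁻¹ ∈ L := by
      intro t ht
      refine ⟨hbS t ht.1, mem_centralizer_iff.mpr fun c hc => ?_⟩
      have hc' : b⁻¹ * c * b ∈ S := by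
        have hpb : b ^ (p - 1) = b⁻¹ := eq_inv_of_mul_eq_one_left (by
          rw [← pow_succ, Nat.sub_add_cancel (Fact.out : p.Prime).pos, hbp])
        have hi : ∀ k : ℕ, b ^ k * c * (b ^ k)⁻¹ ∈ S := by
          intro k
          induction k with
          | zero => simpa using hc
          | succ k ih =>
            rw [pow_succ']
            have := hbS _ ih
            rwa [show b * (b ^ k * c * (b ^ k)⁻¹) * b⁻¹ = b * b ^ k * c * (b * b ^ k)⁻¹ by group] at this
        have := hi (p - 1)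
        rwa [hpb, inv_inv] at this
      have := (Commute.conj_iff b).mpr (mem_centralizer_iff.mp ht.2 _ hc' : Commute (b⁻¹ * c * b) t)
      rwa [show b * (b⁻¹ * c * b) * b⁻¹ = c by group] at this
    have hZL : Z ≤ L := fun ζ hζ => ⟨hZS hζ, mem_centralizer_iff.mpr fun c hc => (hZc hζ c hc.1).eq.symm⟩
    have hLab : L ≤ centralizer (L : Set G) := inf_le_right.trans (centralizer_le inf_le_left)
    have hLb : ∀ l ∈ L, Commute b l := level L Z hZL (inf_le_left.trans hSH) hbLS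
      (fun ζ hζ => by rw [(hbfix hb hζ).eq, mul_inv_cancel_right]; exact hζ) (hS4 L inf_le_left hLab)
      (fun ζ hζ => hbfix hb hζ) (fun ζ hζ t ht => hZc hζ t ht.1.1)
    exact level S L inf_le_left hSH hbS hbLS hcard hLb
      (fun l hl t ht => (mem_centralizer_iff.mp hl.2 t ht).symm) s ⟨hs, hsA⟩
  push Not at hinv
  have hS2 : ∀ Y ≤ S, Y ≤ centralizer (Y : Set G) → Nat.card Y ≤ 2 * Nat.card Z := fun Y hYS hY =>
    d.abelian_card (hYS.trans inf_le_left) hY fun V hV hVea => by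
      refine (Subgroup.card_le_of_le (fun e he => ?_ : V ≤ zpowers z)).trans ?_
      · by_cases he1 : e = 1
        · rw [he1]; exact one_mem _
        · rw [hinv e (hYS (hV he)) (pow_two_mul (hVea.2 e he)) he1]; exact mem_zpowers z
      · rw [Nat.card_zpowers]; exact orderOf_le_of_pow_eq_one two_pos (by rw [pow_two]; exact d.sq_one)
  obtain ⟨t, htS, htZ⟩ : ∃ t ∈ S, t ∉ Z := by
    by_contra hall
    push Not at hall
    exact hab fun a ha => mem_centralizer_iff.mpr fun c hc => (hZc (hall a ha) c hc.1).eq.symm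
  set Y0 := Z ⊔ zpowers t with hY0
  have hZab : Z ≤ centralizer (Z : Set G) := inf_le_right.trans (centralizer_le inf_le_left)
  have hY0S : Y0 ≤ S := sup_le hZS (zpowers_le.mpr htS)
  have hY0ab : Y0 ≤ centralizer (Y0 : Set G) := ab_sup hZab (ab_zpowers t)
    (zpowers_le.mpr (mem_centralizer_iff.mpr fun ζ hζ => (hZc hζ t htS.1).eq))
  have hY0c : 2 * Nat.card Z ≤ Nat.card Y0 := by
    obtain ⟨k, hk⟩ := card_dvd_of_le (le_sup_left : Z ≤ Y0)
    rcases k with _ | _ | k
    · exact absurd hk (by simp [Nat.card_pos.ne'])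
    · rw [zero_add, mul_one] at hk
      exact absurd ((Subgroup.eq_of_le_of_card_ge le_sup_left hk.le : Z = Y0).symm ▸
        mem_sup_right (mem_zpowers t)) htZ
    · rw [hk]; nlinarith
  have hCt : S ⊓ centralizer {t} ≤ Y0 := by
    rintro c ⟨hc, hct⟩
    have hle : Y0 ⊔ zpowers c ≤ S := sup_le hY0S (zpowers_le.mpr hc)
    have hct' : Commute c t := mem_centralizer_singleton_iff.mp hct
    have hY : Y0 ⊔ zpowers c ≤ centralizer ((Y0 ⊔ zpowers c : Subgroup G) : Set G) :=
      ab_sup hY0ab (ab_zpowers c) (le_centralizer_iff.mp (sup_le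
        (fun ζ hζ => mem_centralizer_iff.mpr fun e he =>
          (commute_of_mem_zpowers he (hZc hζ c hc.1)).eq.symm)
        (zpowers_le.mpr (mem_centralizer_iff.mpr fun e he => (commute_of_mem_zpowers he hct'.symm).eq.symm))))
    have h1 := hS2 _ hle hY
    rw [Subgroup.eq_of_le_of_card_ge (le_sup_left : Y0 ≤ Y0 ⊔ zpowers c) (h1.trans hY0c)]
    exact mem_sup_right (mem_zpowers c)
  have h1 := d.card_le_two_mul hSH htS.1
  have h2 := Subgroup.card_le_of_le hCt
  have h3 := hS2 _ hY0S hY0ab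
  exact fromZ (by omega)

/-- For p = 3 a moved element gives a quaternion pair. -/
theorem Setting.quaternion (h : Setting p n G) (hp3 : p = 3) {z : G} {H : Subgroup G}
    (d : Centre p z H) {B A : Subgroup G} (hB : IsElementaryAbelian p B) (hBn : Nat.card B = p ^ n)
    (hBz : B ≤ centralizer {z}) (hAB : A ≤ B) (hAn : Nat.card A = p ^ (n - 1)) {b : G} (hb : b ∈ B)
    {s : G} (hs : s ∈ H) (hsA : s ∈ centralizer (A : Set G)) (hbs : ¬ Commute b s) :
    ∃ q : G, q ∈ H ∧ q ∈ centralizer (A : Set G) ∧ b * q * b⁻¹ ∈ H ∧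
      b * q * b⁻¹ ∈ centralizer (A : Set G) ∧ q * q = z ∧ b * q * b⁻¹ * (b * q * b⁻¹) = z ∧
      ¬ Commute q (b * q * b⁻¹) ∧ ∀ t ∈ H, Commute b t → Commute q t ∧ Commute (b * q * b⁻¹) t := by
  have : Fact (Nat.Prime 2) := ⟨Nat.prime_two⟩
  have hp := h.odd
  have hbz : b * z = z * b := mem_centralizer_singleton_iff.mp (hBz hb)
  have hbp : b ^ p = 1 := hB.2 b hb
  have hbA : b ∈ centralizer (A : Set G) :=
    mem_centralizer_iff.mpr fun a ha => Coprime.ea_comm hB (hAB ha) hb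
  set s1 := b * s * b⁻¹ with hs1
  set q := s1 * s⁻¹ with hq
  set r := b * q * b⁻¹ with hr
  have hs1H : s1 ∈ H := d.conj_mem hbz hs
  have hqH : q ∈ H := mul_mem hs1H (inv_mem hs)
  have hrH : r ∈ H := d.conj_mem hbz hqH
  have hqA : q ∈ centralizer (A : Set G) := (centralizer _).mul_mem
    ((centralizer _).mul_mem ((centralizer _).mul_mem hbA hsA) ((centralizer _).inv_mem hbA))
    ((centralizer _).inv_mem hsA)
  have hrA : r ∈ centralizer (A : Set G) := (centralizer _).mul_mem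
    ((centralizer _).mul_mem hbA hqA) ((centralizer _).inv_mem hbA)
  have horth : ∀ t ∈ H, Commute b t → Commute q t ∧ Commute r t := by
    intro t ht hbt
    have h1 : Commute q t := d.orth hbz hs ht hbt.eq
    exact ⟨h1, (hbt.mul_left h1).mul_left hbt.inv_left⟩
  have hq1 : ¬ Commute b q := by
    intro hc
    have hk := shift_one_two hp d.two hqH hc.eq (u := s) (by rw [hq, hs1]; group) hbp
    rw [hq, mul_inv_eq_one] at hk
    exact hbs (mul_inv_eq_iff_eq_mul.mp hk)
  -- squares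
  have hss : Commute b (s * s) := d.fix hp hbp hbz _ (mul_mem hs hs) fun y hy => d.sq s hs y hy
  have hs11 : s1 * s1 = s * s := by
    rw [hs1, show b * s * b⁻¹ * (b * s * b⁻¹) = b * (s * s) * b⁻¹ by group, hss.eq, mul_inv_cancel_right]
  have hqq : q * q = 1 ∨ q * q = z := by
    by_cases hc : Commute s1 s⁻¹
    · left
      rw [hq, hc.symm.mul_mul_mul_comm, hs11, ← mul_inv_rev, mul_inv_cancel]
    · right
      rw [hq, d.mul_self hs1H (inv_mem hs) hc, hs11, ← mul_inv_rev, mul_inv_cancel, mul_one]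
  have hbqq : Commute b (q * q) := by
    rcases hqq with e | e <;> rw [e]
    · exact Commute.one_right b
    · exact hbz
  have hrr : r * r = q * q := by
    rw [hr, show b * q * b⁻¹ * (b * q * b⁻¹) = b * (q * q) * b⁻¹ by group, hbqq.eq, mul_inv_cancel_right]
  have hprod : b * r * b⁻¹ * (r * q) = 1 := by
    have hb3 : b * b * b = 1 := by rw [← hbp, hp3, pow_succ, pow_two]
    calc b * r * b⁻¹ * (r * q) = (b * b * b) * s * (b * b * b)⁻¹ * s⁻¹ := by rw [hr, hq, hs1]; group
      _ = 1 := by rw [hb3]; group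
  have hbr : Commute b (r * r) := hrr.symm ▸ hbqq
  have hsq : r * q * (r * q) = (q * q)⁻¹ := by
    rw [eq_inv_of_mul_eq_one_right hprod, ← mul_inv_rev]
    congr 1
    rw [show b * r * b⁻¹ * (b * r * b⁻¹) = b * (r * r) * b⁻¹ by group, hbr.eq, mul_inv_cancel_right, hrr]
  have hz2 := d.sq_one
  by_cases hc : Commute q r
  · exfalso
    have h1 : q * q = 1 := by
      rw [hc.mul_mul_mul_comm, hrr] at hsq
      rcases hqq with e | e
      · exact e
      · rw [e, hz2, d.inv_eq] at hsq; exact absurd hsq.symm d.ne_one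
    have hne : ∀ {e : G}, q = e → Commute b e → False := fun he hbe => hq1 (he ▸ hbe)
    have hV1 := ea_extend (ea_zpowers_two hz2) (x := q) (by rw [pow_two]; exact h1)
      (fun e he => ((commute_of_mem_zpowers he (d.comm_z hqH)).eq).symm) fun hm => by
        rcases eq_or_of_mem_zpowers hz2 hm with e | e
        · exact hne e (Commute.one_right b)
        · exact hne e hbz
    have hrnot : r ∉ zpowers z ⊔ zpowers q := by
      intro hm
      have hn : zpowers q ≤ normalizer (zpowers z : Set G) :=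
        zpowers_le.mpr (mem_normalizer_zpowers (d.comm_z hqH))
      obtain ⟨e, he, f, hf, hef⟩ := (Coprime.mem_sup_of_le_normalizer hn).mp hm
      rcases eq_or_of_mem_zpowers h1 hf with rfl | rfl
      · rw [mul_one] at hef
        have : Commute b r := by
          rcases eq_or_of_mem_zpowers hz2 he with rfl | rfl
          · rw [← hef]; exact Commute.one_right b
          · rw [← hef]; exact hbz
        exact hq1 ((Commute.conj_iff b).mp (by rw [← hr]; simpa using this))
      · rcases eq_or_of_mem_zpowers hz2 he with rfl | rfl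
        · rw [one_mul, hr] at hef
          exact hq1 (mul_inv_eq_iff_eq_mul.mp hef.symm)
        · exact d.ne_one (shift_one_two hp d.two d.mem hbz (hr ▸ hef.symm) hbp)
    have hV2 := ea_extend hV1.1 (x := r) (by rw [pow_two, hrr]; exact h1) (fun e he =>
      mem_centralizer_singleton_iff.mp ((sup_le (zpowers_le.mpr (mem_centralizer_singleton_iff.mpr
        (d.comm_z hrH).eq.symm)) (zpowers_le.mpr (mem_centralizer_singleton_iff.mpr hc.eq)) :
          zpowers z ⊔ zpowers q ≤ centralizer {r}) he)) hrnot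
    refine (h.hyp hB hBn).no_eight hAB hAn hV2.1 ?_ (sup_le (sup_le (zpowers_le.mpr ?_)
      (zpowers_le.mpr hqA)) (zpowers_le.mpr hrA))
    · have h2 := hV1.2
      have h3 := hV2.2
      rw [Nat.card_zpowers, orderOf_eq_prime (by rw [pow_two]; exact hz2) d.ne_one] at h2
      omega
    · exact mem_centralizer_iff.mpr fun a ha => mem_centralizer_singleton_iff.mp (hBz (hAB ha))
  have hqz : q * q = z := by
    rw [d.mul_self hrH hqH fun hh => hc hh.symm, hrr] at hsq
    rcases hqq with e | e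
    · rw [e, one_mul, mul_one, inv_one] at hsq; exact absurd hsq d.ne_one
    · exact e
  exact ⟨q, hqH, hqA, hrH, hrA, hqz, hrr.trans hqz, hc, horth⟩

/-- No centre data for an involution centralising a group of rank n. -/
theorem Setting.main_contra (h : Setting p n G) {z : G} (hz : z * z = 1) (hz1 : z ≠ 1) {B : Subgroup G}
    (hB : IsElementaryAbelian p B) (hBn : Nat.card B = p ^ n) (hBz : B ≤ centralizer {z}) : False := by
  have : Fact (Nat.Prime 2) := ⟨Nat.prime_two⟩
  obtain ⟨H, d⟩ := h.exists_centre hz hz1 hB hBn hBz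
  have hp := h.odd
  have hn := h.rank
  have hp1 := (Fact.out : p.Prime).one_lt
  have hBN : B ≤ normalizer (H : Set G) := hBz.trans d.norm
  have hcop : ¬ p ∣ Nat.card H := by
    intro hd
    obtain ⟨m, hm⟩ := IsPGroup.iff_card.mp d.two
    rw [hm] at hd
    exact hp ((Nat.prime_dvd_prime_iff_eq Fact.out Nat.prime_two).mp ((Fact.out : p.Prime).dvd_of_dvd_pow hd))
  have hH := h.hyp hB hBn
  have weight : ∀ b ∈ B, b ≠ 1 → ∃ A ≤ B, b ∉ A ∧ Nat.card A = p ^ (n - 1) ∧
      ∃ s ∈ H, s ∈ centralizer (A : Set G) ∧ ¬ Commute b s := by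
    intro b hb hb1
    have hmv : ¬ H ≤ centralizer {b} := fun hle => hb1 (d.faithful b (hB.2 b hb)
      (mem_centralizer_singleton_iff.mp (hBz hb)) fun x hx => (mem_centralizer_singleton_iff.mp (hle hx)).symm)
    obtain ⟨A, hAB, hbA, hsup, s, hs, hAs, hbs⟩ := exists_weight hB hBN hcop hb hmv
    exact ⟨A, hAB, hbA, hH.hyperplane_card hb hAB hbA hsup, s, hs,
      mem_centralizer_iff.mpr fun a ha => hAs a ha, fun hc => hbs hc.eq⟩
  obtain ⟨b0, hb0, hb01⟩ : ∃ b ∈ B, b ≠ 1 := by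
    by_contra hall
    push Not at hall
    rw [(Subgroup.eq_bot_iff_forall _).mpr hall, card_bot] at hBn
    exact (Nat.one_lt_pow (by omega) hp1).ne hBn
  obtain ⟨A1, hA1B, hb0A1, hA1n, s1, hs1, hs1A, hb0s1⟩ := weight b0 hb0 hb01
  by_cases hp3 : p = 3
  swap
  · refine hb0s1 (h.large_contra ?_ d hB hBn hBz hA1B hA1n hb0 hs1 hs1A)
    have := (Fact.out : p.Prime).two_le
    rcases Nat.lt_or_ge p 5 with hlt | hge
    · interval_cases p
      · exact absurd rfl hp
      · exact absurd rfl hp3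
      · exact absurd (Fact.out : Nat.Prime 4) (by norm_num)
    · exact hge
  obtain ⟨a1, ha1, ha11⟩ : ∃ a ∈ A1, a ≠ 1 := by
    by_contra hall
    push Not at hall
    rw [(Subgroup.eq_bot_iff_forall _).mpr hall, card_bot] at hA1n
    exact (Nat.one_lt_pow (by omega) hp1).ne hA1n
  obtain ⟨A2, hA2B, ha1A2, hA2n, s2, hs2, hs2A, ha1s2⟩ := weight a1 (hA1B ha1) ha11
  obtain ⟨a2, ha2, ha2A1⟩ : ∃ a ∈ A2, a ∉ A1 := by
    by_contra hall
    push Not at hall
    exact ha1A2 ((Subgroup.eq_of_le_of_card_ge hall (by rw [hA1n, hA2n]) : A2 = A1).symm ▸ ha1)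
  have ha2s1 : ¬ Commute a2 s1 := by
    intro hc
    obtain ⟨hE, hcE⟩ := ea_extend (Coprime.ea_mono hB hA1B) (hB.2 a2 (hA2B ha2))
      (fun a ha => Coprime.ea_comm hB (hA1B ha) (hA2B ha2)) ha2A1
    have hEB : A1 ⊔ zpowers a2 = B := Subgroup.eq_of_le_of_card_ge
      (sup_le hA1B (zpowers_le.mpr (hA2B ha2))) (by
        rw [hBn]; refine le_trans (le_of_eq ?_) hcE
        rw [hA1n, ← pow_succ']; congr 1; omega)
    have hle : B ≤ centralizer {s1} := hEB ▸ sup_le
      (fun a ha => mem_centralizer_singleton_iff.mpr (mem_centralizer_iff.mp hs1A a ha))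
      (zpowers_le.mpr (mem_centralizer_singleton_iff.mpr hc.eq))
    exact hb0s1 (mem_centralizer_singleton_iff.mp (hle hb0))
  obtain ⟨q1, h1H, h1A, h1rH, h1rA, hq1, hr1, hne1, -⟩ :=
    h.quaternion hp3 d hB hBn hBz hA1B hA1n (hA2B ha2) hs1 hs1A ha2s1
  obtain ⟨q2, h2H, h2A, h2rH, h2rA, hq2, hr2, hne2, horth⟩ :=
    h.quaternion hp3 d hB hBn hBz hA2B hA2n (hA1B ha1) hs2 hs2A ha1s2
  set r1 := a2 * q1 * a2⁻¹
  set r2 := a1 * q2 * a1⁻¹
  obtain ⟨c21, c2r⟩ := horth q1 h1H (mem_centralizer_iff.mp h1A a1 ha1)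
  obtain ⟨cr1, crr⟩ := horth r1 h1rH (mem_centralizer_iff.mp h1rA a1 ha1)
  clear_value r1 r2
  -- a subgroup of corank 2
  obtain ⟨A, hAle, hAn⟩ : ∃ A ≤ A1 ⊓ A2, Nat.card A = p ^ (n - 2) := by
    refine Coprime.ea_exists_le_card ?_ (Coprime.ea_mono hB (inf_le_left.trans hA1B))
    have idx : ∀ {X : Subgroup G}, X ≤ B → Nat.card X = p ^ (n - 1) → (X.subgroupOf B).index = p := by
      intro X hX hXn
      have e := card_mul_index (X.subgroupOf B)
      rw [Nat.card_congr (subgroupOfEquivOfLe hX).toEquiv, hXn, hBn] at e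
      refine Nat.eq_of_mul_eq_mul_left (Nat.pow_pos (n := n - 1) (Fact.out : p.Prime).pos) (e.trans ?_)
      rw [← pow_succ]; congr 1; omega
    have h2 := index_inf_le (H := A1.subgroupOf B) (K := A2.subgroupOf B)
    have hi : (A1 ⊓ A2).subgroupOf B = A1.subgroupOf B ⊓ A2.subgroupOf B := by
      ext e; simp [mem_subgroupOf]
    rw [idx hA1B hA1n, idx hA2B hA2n, ← hi] at h2
    have e := card_mul_index ((A1 ⊓ A2).subgroupOf B)
    rw [Nat.card_congr (subgroupOfEquivOfLe (inf_le_left.trans hA1B)).toEquiv, hBn] at e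
    refine Nat.le_of_mul_le_mul_right ?_ (Nat.mul_pos (Fact.out : p.Prime).pos (Fact.out : p.Prime).pos)
    calc p ^ (n - 2) * (p * p) = p ^ n := by rw [← pow_two, ← pow_add]; congr 1; omega
      _ ≤ _ := e ▸ Nat.mul_le_mul_left _ h2
  have hA1ne : A ≠ ⊥ := by
    intro hb
    rw [hb, card_bot] at hAn
    exact (Nat.one_lt_pow (by omega) hp1).ne hAn
  have hAB : A ≤ B := hAle.trans (inf_le_left.trans hA1B)
  have hAea := Coprime.ea_mono hB hAB
  have inA : ∀ {t : G}, t ∈ centralizer (A1 : Set G) ∨ t ∈ centralizer (A2 : Set G) →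
      t ∈ centralizer (A : Set G) := by
    intro t ht
    rcases ht with ht | ht
    · exact centralizer_le (hAle.trans inf_le_left) ht
    · exact centralizer_le (hAle.trans inf_le_right) ht
  have hzA : z ∈ centralizer (A : Set G) :=
    mem_centralizer_iff.mpr fun a ha => mem_centralizer_singleton_iff.mp (hBz (hAB ha))
  set v := q1 * q2 with hv
  set w := r1 * r2 with hw
  have hvH : v ∈ H := mul_mem h1H h2H
  have hwH : w ∈ H := mul_mem h1rH h2rH
  have hvA : v ∈ centralizer (A : Set G) := mul_mem (inA (Or.inl h1A)) (inA (Or.inr h2A))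
  have hwA : w ∈ centralizer (A : Set G) := mul_mem (inA (Or.inl h1rA)) (inA (Or.inr h2rA))
  have hv2 : v * v = 1 := by rw [hv, c21.mul_mul_mul_comm, hq1, hq2, hz]
  have hw2 : w * w = 1 := by rw [hw, crr.mul_mul_mul_comm, hr1, hr2, hz]
  have hgv : Commute q1 v := (Commute.refl q1).mul_right c21.symm
  have e1 := d.mul_eq h1H h1rH hne1
  have e2 := d.mul_eq h2H h2rH hne2
  have hgw : q1 * w = z * (w * q1) := by
    calc q1 * w = (q1 * r1) * r2 := by rw [hw, mul_assoc]
      _ = z * r1 * (q1 * r2) := by rw [e1]; group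
      _ = _ := by rw [c2r.eq.symm, hw]; group
  have hq2w : q2 * w = z * (w * q2) := by
    calc q2 * w = (q2 * r1) * r2 := by rw [hw, mul_assoc]
      _ = r1 * (q2 * r2) := by rw [cr1.eq, mul_assoc]
      _ = r1 * z * (r2 * q2) := by rw [e2, mul_assoc]
      _ = _ := by rw [(d.comm_z h1rH).eq, hw]; group
  have hvw : Commute v w := by
    show v * w = w * v
    calc v * w = q1 * (q2 * w) := by rw [hv, mul_assoc]
      _ = (q1 * z) * (w * q2) := by rw [hq2w]; simp only [mul_assoc]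
      _ = z * (q1 * w) * q2 := by rw [(d.comm_z h1H).eq]; group
      _ = (z * z) * (w * v) := by rw [hgw, hv]; group
      _ = _ := by rw [hz, one_mul]
  have hV0 : IsElementaryAbelian 2 (zpowers z ⊔ zpowers v) := ea_sup_zpowers (ea_zpowers_two hz)
    (by rw [pow_two]; exact hv2) fun e he => (commute_of_mem_zpowers he (d.comm_z hvH)).eq.symm
  have hV : IsElementaryAbelian 2 (zpowers z ⊔ zpowers v ⊔ zpowers w) :=
    ea_sup_zpowers hV0 (by rw [pow_two]; exact hw2) fun e he => mem_centralizer_singleton_iff.mp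
      ((sup_le (zpowers_le.mpr (mem_centralizer_singleton_iff.mpr (d.comm_z hwH).eq.symm))
        (zpowers_le.mpr (mem_centralizer_singleton_iff.mpr hvw.eq)) :
          zpowers z ⊔ zpowers v ≤ centralizer {w}) he)
  have hzV : z ∈ zpowers z ⊔ zpowers v ⊔ zpowers w := mem_sup_left (mem_sup_left (mem_zpowers z))
  obtain ⟨K, hKR, hK, hKc, U, hUV, hzU, hsup, x, hx, hx1, hxi, hUx⟩ := h.inverted_weight hAea hA1ne hV
    (sup_le (sup_le (zpowers_le.mpr hzA) (zpowers_le.mpr hvA)) (zpowers_le.mpr hwA)) hzV hz1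
  obtain ⟨v', hv'U, hv'⟩ := mem_or_mul_mem hV hUV hzV hsup (mem_sup_left (mem_sup_right (mem_zpowers v)))
  obtain ⟨w', hw'U, hw'⟩ := mem_or_mul_mem hV hUV hzV hsup (mem_sup_right (mem_zpowers w))
  have hzq : Commute q1 z := d.comm_z h1H
  obtain ⟨hv'H, hv'2, hv'A, hgv', hv'r⟩ : v' ∈ H ∧ v' * v' = 1 ∧ v' ∈ centralizer (A : Set G) ∧
      Commute q1 v' ∧ ¬ Commute v' r1 := by
    have hvr : ¬ Commute v r1 := fun hc => hne1 (by
      have := hc.mul_left (cr1.inv_left)
      rwa [hv, mul_inv_cancel_right] at this)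
    rcases hv' with rfl | rfl
    · exact ⟨hvH, hv2, hvA, hgv, hvr⟩
    · refine ⟨mul_mem hvH d.mem, ?_, mul_mem hvA hzA, hgv.mul_right hzq, fun hc => hvr ?_⟩
      · rw [(d.comm_z hvH).symm.mul_mul_mul_comm, hv2, hz, one_mul]
      · have := hc.mul_left (d.comm_z h1rH).symm.inv_left
        rwa [mul_inv_cancel_right] at this
  obtain ⟨hw'H, hw'A, hgw', hw'v⟩ : w' ∈ H ∧ w' ∈ centralizer (A : Set G) ∧ q1 * w' = z * (w' * q1) ∧
      w' * v' = v' * w' := by
    refine ⟨?_, ?_, ?_, Coprime.ea_comm hV (hUV hw'U) (hUV hv'U)⟩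
    · rcases hw' with rfl | rfl
      · exact hwH
      · exact mul_mem hwH d.mem
    · rcases hw' with rfl | rfl
      · exact hwA
      · exact mul_mem hwA hzA
    · rcases hw' with rfl | rfl
      · exact hgw
      · calc q1 * (w * z) = (q1 * w) * z := by group
          _ = z * w * (q1 * z) := by rw [hgw]; group
          _ = _ := by rw [hzq.eq]; group
  have u : Duo p z v' H A x := ⟨d, hv'H, hv'2, hv'A, ⟨r1, h1rH, hv'r⟩, hAea, hA1ne, hAB.trans hBz, hzA,
    hKR hx, hK.exp x hx, hx1, (hUx v' hv'U).symm, hxi⟩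
  have hyK := hKc q1 (inA (Or.inl h1A)) x hx
  exact u.pair_contra h hAn h1H hgv'.eq (inA (Or.inl h1A)) hq1 hw'H hw'v hw'A (hUx w' hw'U) hgw'
    (u.comm_eq_one h hK hKR hx h1H hgv'.eq (inA (Or.inl h1A)) hyK) (hK.exp _ hyK)

/-- A 2-local of rank n yields an involution centralising a group of rank n. -/
theorem Setting.exists_involution (h : Setting p n G) {T0 : Subgroup G} (hT0 : IsPGroup 2 T0)
    (hT01 : T0 ≠ ⊥) {B : Subgroup G} (hB : IsElementaryAbelian p B) (hBn : Nat.card B = p ^ n)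
    (hBN : B ≤ normalizer (T0 : Set G)) :
    ∃ z : G, z * z = 1 ∧ z ≠ 1 ∧ ∃ E : Subgroup G, IsElementaryAbelian p E ∧ Nat.card E = p ^ n ∧
      E ≤ centralizer {z} := by
  have : Fact (Nat.Prime 2) := ⟨Nat.prime_two⟩
  have hp := h.odd
  have hn := h.rank
  set T := normCore 2 T0 with hTdef
  have hT : IsPGroup 2 T := normCore_isPGroup 2 _
  have hBT : B ≤ normalizer (T : Set G) := hBN.trans (normalizer_le_normalizer_normCore 2 _)
  let U : Subgroup G :=
    { carrier := {t | t ∈ T ∧ (∀ e ∈ T, Commute t e) ∧ t * t = 1}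
      one_mem' := ⟨one_mem T, fun e _ => Commute.one_left e, mul_one 1⟩
      mul_mem' := fun {a b} ha hb => ⟨mul_mem ha.1 hb.1, fun e he => (ha.2.1 e he).mul_left (hb.2.1 e he),
        by rw [(hb.2.1 a ha.1).mul_mul_mul_comm, ha.2.2, hb.2.2, one_mul]⟩
      inv_mem' := fun {a} ha => ⟨inv_mem ha.1, fun e he => (ha.2.1 e he).inv_left,
        by rw [← mul_inv_rev, ha.2.2, inv_one]⟩ }
  have hUea : IsElementaryAbelian 2 U :=
    ⟨⟨⟨fun a b => Subtype.ext (a.2.2.1 b b.2.1).eq⟩⟩, fun a ha => by rw [pow_two]; exact ha.2.2⟩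
  obtain ⟨u, hu, hu1⟩ : ∃ u ∈ U, u ≠ 1 := by
    have : Nontrivial T := (Subgroup.nontrivial_iff_ne_bot T).mpr fun hb =>
      hT01 (le_bot_iff.mp (hb ▸ le_normCore 2 hT0))
    have := hT.center_nontrivial
    have hd : 2 ∣ Nat.card (center T) := by
      obtain ⟨m, hm⟩ := IsPGroup.iff_card.mp (hT.to_subgroup (center T))
      rcases m with _ | m
      · exact absurd (hm.trans (pow_zero 2)) (Finite.one_lt_card (α := center T)).ne'
      · rw [hm]; exact dvd_pow_self 2 (by omega)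
    obtain ⟨c, hc⟩ := exists_prime_orderOf_dvd_card' 2 hd
    refine ⟨((c : T) : G), ⟨(c : T).2, fun e he =>
      (congrArg Subtype.val (mem_center_iff.mp c.2 ⟨e, he⟩) : e * _ = _ * e).symm, ?_⟩, ?_⟩
    · have := pow_orderOf_eq_one c
      rw [hc, pow_two] at this
      exact congrArg (fun w : center T => ((w : T) : G)) this
    · intro e
      have : c = 1 := Subtype.ext (Subtype.ext e)
      rw [this, orderOf_one] at hc
      omega
  by_cases hfix : ∀ b ∈ B, Commute b u
  · exact ⟨u, hu.2.2, hu1, B, hB, hBn, fun b hb => mem_centralizer_singleton_iff.mpr (hfix b hb).eq⟩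
  push Not at hfix
  obtain ⟨b, hb, hbu⟩ := hfix
  have hBU : B ≤ normalizer (U : Set G) := le_normalizer_of_conj fun c hc t ht => by
    have hcT := hBT hc
    refine ⟨(mem_normalizer_iff.mp hcT t).mp ht.1, fun e he => ?_, ?_⟩
    · have he' : c⁻¹ * e * c ∈ T := by
        have := (mem_normalizer_iff.mp (inv_mem hcT) e).mp he
        rwa [inv_inv] at this
      have := (Commute.conj_iff c).mpr (ht.2.1 _ he')
      rwa [show c * (c⁻¹ * e * c) * c⁻¹ = e by group] at this
    · rw [show c * t * c⁻¹ * (c * t * c⁻¹) = c * (t * t) * c⁻¹ by group, ht.2.2]; group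
  have hcop : ¬ p ∣ Nat.card U := by
    intro hd
    obtain ⟨m, hm⟩ := Coprime.ea_card hUea
    rw [hm] at hd
    exact hp ((Nat.prime_dvd_prime_iff_eq Fact.out Nat.prime_two).mp ((Fact.out : p.Prime).dvd_of_dvd_pow hd))
  obtain ⟨A, hAB, hbA, hsup, x0, hx0, hAx0, hbx0⟩ := exists_weight hB hBU hcop hb fun hle =>
    hbu (mem_centralizer_singleton_iff.mp (hle hu)).symm
  have hAn := (h.hyp hB hBn).hyperplane_card hb hAB hbA hsup
  have hAea := Coprime.ea_mono hB hAB
  have hA1 : A ≠ ⊥ := by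
    intro e
    rw [e, card_bot] at hAn
    exact (Nat.one_lt_pow (by omega) (Fact.out : p.Prime).one_lt).ne hAn
  set X := U ⊓ centralizer (A : Set G) with hX
  have hXea : IsElementaryAbelian 2 X := Coprime.ea_mono hUea inf_le_left
  have hbA' : b ∈ centralizer (A : Set G) :=
    mem_centralizer_iff.mpr fun a ha => Coprime.ea_comm hB (hAB ha) hb
  have hx0X : x0 ∈ X := ⟨hx0, mem_centralizer_iff.mpr fun a ha => hAx0 a ha⟩
  have hx01 : x0 ≠ 1 := fun e => hbx0 (by rw [e, mul_one, one_mul])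
  have hx1X : b * x0 * b⁻¹ ∈ X := ⟨mem_centralizer_of_le_normalizer hBU hb hx0,
    (centralizer _).mul_mem ((centralizer _).mul_mem hbA' hx0X.2) ((centralizer _).inv_mem hbA')⟩
  obtain ⟨K, hKR, hK, -, W, hWX, hx0W, hWsup, x, hx, hx1, hxi, hWx⟩ :=
    h.inverted_weight hAea hA1 hXea inf_le_right hx0X hx01
  obtain ⟨v, hvW, hv⟩ := mem_or_mul_mem hXea hWX hx0X hWsup hx1X
  have hv1 : v ≠ 1 := by
    rcases hv with rfl | rfl
    · exact fun e => hx01 (conj_eq_one_iff.mp e)
    · intro e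
      rw [mul_eq_one_iff_eq_inv, inv_eq_of_mul_eq_one_left (pow_two_mul (hXea.2 x0 hx0X))] at e
      exact hbx0 (mul_inv_eq_iff_eq_mul.mp e)
  have hvA : v ∈ centralizer (A : Set G) := (hWX hvW).2
  have hxA : ∀ a ∈ A, a * x = x * a := fun a ha => mem_centralizer_iff.mp (centCore_le A (hKR hx)) a ha
  have hxnA : x ∉ A := fun hm =>
    inverted_ne hp (hK.exp x hx) hx1 hxi (mem_centralizer_iff.mp hx0X.2 x hm).symm
  obtain ⟨hE, hcE⟩ := ea_extend hAea (hK.exp x hx) hxA hxnA
  have hEv : A ⊔ zpowers x ≤ centralizer {v} :=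
    sup_le (fun a ha => mem_centralizer_singleton_iff.mpr (mem_centralizer_iff.mp hvA a ha))
      (zpowers_le.mpr (mem_centralizer_singleton_iff.mpr (hWx v hvW).symm))
  refine ⟨v, pow_two_mul (hXea.2 v (hWX hvW)), hv1, _, hE, le_antisymm
    (rank_contra h.bound (hXea.2 v (hWX hvW)) hv1 hE hEv) ?_, hEv⟩
  rw [hAn, ← pow_succ', show n - 1 + 1 = n by omega] at hcE
  exact hcE

/-- The Klinger-Mason theorem. -/
theorem two_local_rank_le_two (hp : p ≠ 2) (hGp : IsOfLocalCharacteristic p G)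
    (hG2 : IsCharacteristicTwoType G) : TwoLocalPRankLE p 2 G := by
  classical
  have hex : ∃ m, TwoLocalPRankLE p m G := ⟨Nat.card G, fun H _ A _ _ =>
    ((card_le_card_group A).trans (card_le_card_group H)).trans (Nat.lt_pow_self (Fact.out : p.Prime).one_lt).le⟩
  set m := Nat.find hex with hm
  have hspec : TwoLocalPRankLE p m G := Nat.find_spec hex
  by_cases h2 : m ≤ 2
  · intro H hH A hA hexp
    exact (hspec H hH A hA hexp).trans (Nat.pow_le_pow_right (Fact.out : p.Prime).pos h2)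
  have hmin := Nat.find_min hex (show m - 1 < m by omega)
  simp only [TwoLocalPRankLE, PRankLE, not_forall, not_le] at hmin
  obtain ⟨M, hM, A, hA, hexp, hlt⟩ := hmin
  have h : Setting p m G := ⟨hp, by omega, hGp, hG2, hspec⟩
  have hle := hspec M hM A hA hexp
  have hAea : IsElementaryAbelian p A := ⟨hA, hexp⟩
  obtain ⟨k, hk⟩ := Coprime.ea_card hAea
  have hp1 := (Fact.out : p.Prime).one_lt
  rw [hk, Nat.pow_lt_pow_iff_right hp1] at hlt
  rw [hk, Nat.pow_le_pow_iff_right hp1] at hle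
  obtain ⟨T0, hT0, hT01, rfl⟩ := hM
  have hB : IsElementaryAbelian p (A.map (normalizer (T0 : Set G)).subtype) := by
    refine ⟨⟨⟨?_⟩⟩, ?_⟩
    · rintro ⟨_, a, ha, rfl⟩ ⟨_, b, hb, rfl⟩
      exact Subtype.ext (congrArg (fun w : normalizer (T0 : Set G) => (w : G)) (Coprime.ea_comm hAea ha hb))
    · rintro _ ⟨a, ha, rfl⟩
      rw [← map_pow, hexp a ha, map_one]
  have hBn : Nat.card (A.map (normalizer (T0 : Set G)).subtype) = p ^ m := by
    rw [card_map_of_injective (subtype_injective _), hk, show k = m by omega]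
  obtain ⟨z, hz, hz1, E, hE, hEn, hEz⟩ :=
    h.exists_involution hT0 hT01 hB hBn (map_subtype_le _)
  exact (h.main_contra hz hz1 hE hEn hEz).elim

end Cfsg.Agent.KlingerMason
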