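import Cfsg.Agent.KlingerMason.Centre

/-!
# Two involution centralisers

z and v are commuting involutions with v in the critical subgroup H of C(z), and x is an element of
O_p(C(A)) centralising v and inverted by z.  Elements of H centralising v and A move x to commuting
elements, and two such elements spanning a dihedral group give a contradiction.
-/

set_option autoImplicit false
set_option linter.unusedSectionVars false

open Subgroup
open scoped commutatorElement

namespace Cfsg.Agent.KlingerMason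

variable {G : Type*} [Group G] [Finite G] {p : ℕ} [Fact p.Prime]

/-- In a group of prime exponent every non-trivial power generates. -/
theorem mem_zpowers_of_pow {d e : G} (hd : d ^ p = 1) (he : e ∈ zpowers d) (he1 : e ≠ 1) :
    d ∈ zpowers e := by
  have hd1 : d ≠ 1 := by
    rintro rfl
    rw [zpowers_one_eq_bot, mem_bot] at he
    exact he1 he
  obtain ⟨i, rfl⟩ := mem_zpowers_iff.mp he
  have he' : (d ^ i) ^ p = 1 := by rw [← zpow_natCast, ← zpow_mul, mul_comm, zpow_mul, zpow_natCast, hd, one_zpow]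
  have hle : zpowers (d ^ i) ≤ zpowers d := zpowers_le.mpr (zpow_mem (mem_zpowers d) i)
  rw [Subgroup.eq_of_le_of_card_ge hle (by
    rw [Nat.card_zpowers, Nat.card_zpowers, orderOf_eq_prime hd hd1, orderOf_eq_prime he' he1])]
  exact mem_zpowers d

theorem commute_of_mem_zpowers {d e t : G} (hd : d ∈ zpowers e) (h : Commute t e) : Commute t d := by
  obtain ⟨i, rfl⟩ := mem_zpowers_iff.mp hd
  exact h.zpow_right i

/-- An element of the centraliser core and an element of H that centralises A commute. -/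
theorem Centre.core_comm (hp : p ≠ 2) {z : G} {H : Subgroup G} (d : Centre p z H) {A : Subgroup G}
    {x q : G} (hx : x ∈ centCore p A) (hxz : x * z = z * x) (hq : q ∈ H)
    (hqA : q ∈ centralizer (A : Set G)) : Commute x q :=
  cross_comm hp (centCore_isPGroup A) d.two hx hq (d.norm (mem_centralizer_singleton_iff.mpr hxz))
    (centralizer_le_normalizer_centCore A hqA)

/-- z is not in a normal 2-subgroup of C(v) when it inverts an element of order p there. -/
theorem not_mem_of_inverted (hp : p ≠ 2) {z v x : G} {X : Subgroup G} (hX : IsPGroup 2 X)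
    (hN : centralizer {v} ≤ normalizer (X : Set G)) (hxv : x * v = v * x) (hxp : x ^ p = 1)
    (hx1 : x ≠ 1) (hzx : z * x * z⁻¹ = x⁻¹) : z ∉ X := by
  intro hz
  have h2 : x⁻¹ * x⁻¹ ∈ X := by
    have hm := mul_mem hz (mem_centralizer_of_le_normalizer hN (mem_centralizer_singleton_iff.mpr hxv)
      (inv_mem hz))
    rwa [show z * (x * z⁻¹ * x⁻¹) = z * x * z⁻¹ * x⁻¹ by group, hzx] at hm
  have h3 := eq_one_of_pow hp hX h2 (by
    rw [(Commute.refl x⁻¹).mul_pow, inv_pow, hxp, inv_one, one_mul])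
  refine inverted_ne hp hxp hx1 (v := (1 : G)) ?_ (by rw [one_mul, mul_one])
  rw [one_mul, inv_one, mul_one]
  exact eq_inv_of_mul_eq_one_left (by rwa [← mul_inv_rev, inv_eq_one] at h3)

/-- Elements common to H and a normal 2-subgroup of C(v) avoiding z. -/
theorem Centre.inter {z v : G} {H X : Subgroup G} (d : Centre p z H) (hv : v ∈ H) (hv2 : v * v = 1)
    {h0 : G} (hh0 : h0 ∈ H) (hne : ¬ Commute v h0) (hN : centralizer {v} ≤ normalizer (X : Set G))
    (hzX : z ∉ X) (hvX : v ∈ X) {i : G} (hiH : i ∈ H) (hiX : i ∈ X) : i = 1 ∨ i = v := by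
  have hcv : ∀ t ∈ H, ∀ j ∈ H, j ∈ X → Commute t v → Commute j t := by
    intro t ht j hj hjX htv
    rcases d.cls j hj t ht with h | h
    · exact commutatorElement_eq_one_iff_mul_comm.mp h
    · refine absurd ?_ hzX
      rw [← h, commutatorElement_def, show j * t * j⁻¹ * t⁻¹ = j * (t * j⁻¹ * t⁻¹) by group]
      exact mul_mem hjX (mem_centralizer_of_le_normalizer hN (mem_centralizer_singleton_iff.mpr htv)
        (inv_mem hjX))
  have central : ∀ j ∈ H, j ∈ X → Commute j h0 → j = 1 := by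
    intro j hj hjX hj0
    by_contra hj1
    have hjc : ∀ t ∈ H, Commute j t := by
      intro t ht
      by_cases htv : Commute t v
      · exact hcv t ht j hj hjX htv
      · have h2 : Commute (t * h0) v := d.mul_commute ht hh0 hv htv fun hc => hne hc.symm
        have := (hcv _ (mul_mem ht hh0) j hj hjX h2).mul_right hj0.inv_right
        rwa [mul_inv_cancel_right] at this
    obtain ⟨k, hk⟩ := d.cen j hj hjc hj1
    exact hzX (hk ▸ pow_mem hjX k)
  by_cases hi0 : Commute i h0
  · exact Or.inl (central i hiH hiX hi0)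
  · refine Or.inr ?_
    have := central (i * v) (mul_mem hiH hv) (mul_mem hiX hvX) (d.mul_commute hiH hv hh0 hi0 hne)
    rw [eq_inv_of_mul_eq_one_left this, inv_eq_of_mul_eq_one_left hv2]

/-- Elements of H in C(v) centralising a fix the shifts by a of the fixed points of z in X. -/
theorem Centre.shift_fixed {z v : G} {H X : Subgroup G} (d : Centre p z H) (hv : v ∈ H) (hv2 : v * v = 1)
    {h0 : G} (hh0 : h0 ∈ H) (hne : ¬ Commute v h0) (hN : centralizer {v} ≤ normalizer (X : Set G))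
    (hXv : X ≤ centralizer {v}) (hzX : z ∉ X) (hvX : v ∈ X) {g a f : G} (hg : g ∈ H)
    (hgv : g * v = v * g) (hga : g * a = a * g) (hav : a * v = v * a) (hf : f ∈ X)
    (hfz : f * z = z * f) : Commute g (a * f * a⁻¹ * f⁻¹) := by
  have hiX : g * f * g⁻¹ * f⁻¹ ∈ X :=
    mul_mem (mem_centralizer_of_le_normalizer hN (mem_centralizer_singleton_iff.mpr hgv) hf) (inv_mem hf)
  have hiH : g * f * g⁻¹ * f⁻¹ ∈ H := by
    rw [show g * f * g⁻¹ * f⁻¹ = g * (f * g⁻¹ * f⁻¹) by group]
    exact mul_mem hg (d.conj_mem hfz (inv_mem hg))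
  have haN : a ∈ normalizer (X : Set G) := hN (mem_centralizer_singleton_iff.mpr hav)
  have hc : a * f * a⁻¹ * f⁻¹ ∈ X := mul_mem ((mem_normalizer_iff.mp haN f).mp hf) (inv_mem hf)
  obtain ⟨i, hi, hia, hic⟩ : ∃ i, g * f * g⁻¹ = i * f ∧ Commute a i ∧
      Commute i (a * f * a⁻¹ * f⁻¹) := by
    refine ⟨g * f * g⁻¹ * f⁻¹, by group, ?_⟩
    rcases d.inter hv hv2 hh0 hne hN hzX hvX hiH hiX with h | h <;> rw [h]
    · exact ⟨Commute.one_right a, Commute.one_left _⟩
    · exact ⟨hav, (mem_centralizer_singleton_iff.mp (hXv hc)).symm⟩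
  refine mul_inv_eq_iff_eq_mul.mp ?_
  have e : g * (a * f * a⁻¹ * f⁻¹) * g⁻¹ = i * (a * f * a⁻¹ * f⁻¹) * i⁻¹ := by
    calc g * (a * f * a⁻¹ * f⁻¹) * g⁻¹
        = (g * a * g⁻¹) * (g * f * g⁻¹) * (g * a * g⁻¹)⁻¹ * (g * f * g⁻¹)⁻¹ := by group
      _ = a * i * f * a⁻¹ * f⁻¹ * i⁻¹ := by
          rw [show g * a * g⁻¹ = a by rw [hga, mul_inv_cancel_right], hi]; group
      _ = _ := by rw [show a * i = i * a from hia]; group
  rw [e, hic.eq, mul_inv_cancel_right]

/-- The data for a pair of involutions z, v and an element x. -/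
structure Duo (p : ℕ) (z v : G) (H A : Subgroup G) (x : G) : Prop where
  centre : Centre p z H
  vmem : v ∈ H
  vsq : v * v = 1
  vA : v ∈ centralizer (A : Set G)
  moved : ∃ h0 ∈ H, ¬ Commute v h0
  ea : IsElementaryAbelian p A
  ne_bot : A ≠ ⊥
  Az : A ≤ centralizer {z}
  zA : z ∈ centralizer (A : Set G)
  xmem : x ∈ centCore p A
  xp : x ^ p = 1
  x1 : x ≠ 1
  xv : x * v = v * x
  xz : z * x * z⁻¹ = x⁻¹

namespace Duo

variable {z v : G} {H A : Subgroup G} {x : G}

theorem v_ne (u : Duo p z v H A x) : v ≠ 1 := by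
  intro h
  obtain ⟨h0, -, hne⟩ := u.moved
  exact hne (h ▸ Commute.one_left h0)

theorem vz (u : Duo p z v H A x) : v * z = z * v := u.centre.comm_z u.vmem

theorem Av (u : Duo p z v H A x) {a : G} (ha : a ∈ A) : a * v = v * a :=
  mem_centralizer_iff.mp u.vA a ha

theorem xA (u : Duo p z v H A x) {a : G} (ha : a ∈ A) : a * x = x * a :=
  mem_centralizer_iff.mp (centCore_le A u.xmem) a ha

theorem x_not_mem (u : Duo p z v H A x) (hp : p ≠ 2) : x ∉ A := fun h =>
  inverted_ne hp u.xp u.x1 u.xz (mem_centralizer_singleton_iff.mp (u.Az h)).symm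

variable {n : ℕ}

/-- The images of x commute with x. -/
theorem comm_eq_one (u : Duo p z v H A x) (h : Setting p n G) {K : Subgroup G} (hK : Small p K)
    (hKR : K ≤ centCore p A) (hx : x ∈ K) {g : G} (hg : g ∈ H) (hgv : g * v = v * g)
    (hgA : g ∈ centralizer (A : Set G)) (hy : g * x * g⁻¹ ∈ K) : Commute x (g * x * g⁻¹) := by
  have : Fact (Nat.Prime 2) := ⟨Nat.prime_two⟩
  obtain ⟨h0, hh0, hne⟩ := u.moved
  have d := u.centre
  have hp := h.odd
  set y := g * x * g⁻¹ with hydef
  have hyv : y * v = v * y := ((Commute.mul_left (Commute.mul_left hgv u.xv) (Commute.inv_left hgv))).eq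
  have hzg : g * z = z * g := d.comm_z hg
  have hyz : z * y * z⁻¹ = y⁻¹ := by
    calc z * y * z⁻¹ = (z * g) * x * (z * g)⁻¹ := by rw [hydef]; group
      _ = g * (z * x * z⁻¹) * g⁻¹ := by rw [← hzg]; group
      _ = _ := by rw [u.xz, hydef]; group
  set w := ⁅x, y⁆ with hwdef
  by_contra hnc
  have hw1 : w ≠ 1 := fun h' => hnc (commutatorElement_eq_one_iff_mul_comm.mp h')
  have hwK : w ∈ K := by
    rw [hwdef, commutatorElement_def]
    exact mul_mem (mul_mem (mul_mem hx hy) (inv_mem hx)) (inv_mem hy)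
  have hwp : w ^ p = 1 := hK.exp w hwK
  have hwv : w * v = v * w := by
    rw [hwdef, commutatorElement_def]
    exact (((Commute.mul_left u.xv hyv).mul_left (Commute.inv_left u.xv)).mul_left
      (Commute.inv_left hyv)).eq
  have hwz : w * z = z * w := by
    have e : MulAut.conj z w = w := by
      rw [hwdef, map_commutatorElement, MulAut.conj_apply, MulAut.conj_apply, u.xz, hyz,
        hK.comm_inv (inv_mem hx) hy, ← commutatorElement_inv y x⁻¹, inv_inv, hK.comm_inv hy hx,
        commutatorElement_inv]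
    exact (mul_inv_eq_iff_eq_mul.mp e).symm
  have hwx : w * x = x * w := hK.cl x hx y hy x hx
  have hwy : w * y = y * w := hK.cl x hx y hy y hy
  set T := normCore 2 (zpowers v) with hTdef
  have hv2 : IsPGroup 2 (zpowers v) := IsPGroup.of_card (n := 1) (by
    rw [Nat.card_zpowers, pow_one]; exact orderOf_eq_prime (by rw [pow_two]; exact u.vsq) u.v_ne)
  have hT : IsPGroup 2 T := normCore_isPGroup 2 _
  have hN : centralizer {v} ≤ normalizer (T : Set G) := fun c hc =>
    normalizer_le_normalizer_normCore 2 _ (mem_normalizer_zpowers (mem_centralizer_singleton_iff.mp hc))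
  have hTv : T ≤ centralizer {v} := fun t ht =>
    mem_centralizer_singleton_iff.mpr (commute_of_mem_normalizer_zpowers u.vsq (normCore_le 2 _ ht))
  have hvT : v ∈ T := le_normCore 2 hv2 (mem_zpowers v)
  have hzT : z ∉ T := not_mem_of_inverted hp hT hN u.xv u.xp u.x1 u.xz
  have hwN : w ∈ normalizer (T : Set G) := hN (mem_centralizer_singleton_iff.mpr hwv)
  -- the common fixed points of z and x are fixed by w
  have step : ∀ t ∈ T, t * z = z * t → t * x = x * t → Commute w t := by
    intro t ht htz htx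
    set k := t⁻¹ * (w * t * w⁻¹) with hk
    have hkT : k ∈ T := mul_mem (inv_mem ht) ((mem_normalizer_iff.mp hwN t).mp ht)
    have hkA : k ∈ centralizer (A : Set G) := by
      refine mem_centralizer_iff.mpr fun a ha => mul_inv_eq_iff_eq_mul.mp ?_
      set c := a * t * a⁻¹ * t⁻¹ with hc
      have hga : g * a = a * g := (mem_centralizer_iff.mp hgA a ha).symm
      have hgc : Commute g c := d.shift_fixed u.vmem u.vsq hh0 hne hN hTv hzT hvT hg hgv hga (u.Av ha) ht htz
      have hxa : Commute x a := (u.xA ha).symm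
      have hxc : Commute x c :=
        ((hxa.mul_right (Commute.symm htx)).mul_right hxa.inv_right).mul_right (Commute.symm htx).inv_right
      have hyc : Commute y c := (hgc.mul_left hxc).mul_left hgc.inv_left
      have hwc : Commute w c := by
        rw [hwdef, commutatorElement_def]
        exact ((hxc.mul_left hyc).mul_left hxc.inv_left).mul_left hyc.inv_left
      have haw : a * w = w * a := mem_centralizer_iff.mp (centCore_le A (hKR hwK)) a ha
      calc a * k * a⁻¹ = (a * t * a⁻¹)⁻¹ * ((a * w) * t * (a * w)⁻¹) := by rw [hk]; group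
        _ = (c * t)⁻¹ * (w * (c * t) * w⁻¹) := by rw [haw, hc]; group
        _ = t⁻¹ * c⁻¹ * (w * c) * t * w⁻¹ := by group
        _ = _ := by rw [hwc.eq, hk]; group
    have hwk : Commute w k := cross_comm hp (centCore_isPGroup A) hT (hKR hwK) hkT hwN
      (centralizer_le_normalizer_centCore A hkA)
    have hk1 := shift_one_two hp hT (inv_mem hkT) hwk.inv_right.eq
      (u := t⁻¹) (by rw [hk]; group) hwp
    rw [inv_eq_one, hk, inv_mul_eq_one] at hk1
    exact mul_inv_eq_iff_eq_mul.mp hk1.symm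
  -- hence the fixed points of x
  have hTx : ∀ t ∈ T, t * x = x * t → Commute w t := by
    intro t ht htx
    set S := T ⊓ centralizer {x} with hS
    have fwd : ∀ c : G, c * v = v * c → (c * x * c⁻¹ = x ∨ c * x * c⁻¹ = x⁻¹) → ∀ s ∈ S, c * s * c⁻¹ ∈ S := by
      intro c hcv hcx s hs
      refine ⟨mem_centralizer_of_le_normalizer hN (mem_centralizer_singleton_iff.mpr hcv) hs.1, ?_⟩
      have h3 := (Commute.conj_iff c).mpr (mem_centralizer_singleton_iff.mp hs.2 : Commute s x)
      refine mem_centralizer_singleton_iff.mpr ?_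
      rcases hcx with h' | h' <;> rw [h'] at h3
      · exact h3.eq
      · exact (by simpa using h3.inv_right : Commute (c * s * c⁻¹) x).eq
    have hnS : ∀ c : G, c * v = v * c → (c * x * c⁻¹ = x ∨ c * x * c⁻¹ = x⁻¹) →
        zpowers c ≤ normalizer (S : Set G) := by
      intro c hcv hcx
      have hcx' : c⁻¹ * x * c⁻¹⁻¹ = x ∨ c⁻¹ * x * c⁻¹⁻¹ = x⁻¹ := by
        rcases hcx with h' | h'
        · left
          calc c⁻¹ * x * c⁻¹⁻¹ = c⁻¹ * (c * x * c⁻¹) * c := by rw [h', inv_inv]
            _ = x := by group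
        · right
          calc c⁻¹ * x * c⁻¹⁻¹ = (c⁻¹ * (c * x * c⁻¹) * c)⁻¹ := by rw [h', inv_inv]; group
            _ = x⁻¹ := by group
      refine zpowers_le.mpr (mem_normalizer_iff.mpr fun s => ⟨fwd c hcv hcx s, fun hm => ?_⟩)
      have h4 := fwd c⁻¹ (Commute.inv_left hcv).eq hcx' _ hm
      rwa [show c⁻¹ * (c * s * c⁻¹) * c⁻¹⁻¹ = s by group] at h4
    have hzS := hnS z u.vz.symm (Or.inr u.xz)
    have hwS := hnS w hwv (Or.inl (by rw [hwx, mul_inv_cancel_right]))
    have hz2 : IsPGroup 2 (zpowers z) := IsPGroup.of_card (n := 1) (by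
      rw [Nat.card_zpowers, pow_one]; exact orderOf_eq_prime (by rw [pow_two]; exact d.sq_one) d.ne_one)
    have hzw : zpowers z ≤ centralizer (zpowers w : Set G) := fun e he => mem_centralizer_iff.mpr fun f hf =>
      (commute_of_mem_zpowers he (commute_of_mem_zpowers hf (Commute.symm hwz)).symm).eq
    have hfix : S ⊓ centralizer (zpowers z : Set G) ≤ centralizer (zpowers w : Set G) := by
      rintro s ⟨hs1, hs2⟩
      refine mem_centralizer_iff.mpr fun f hf => ?_
      exact (commute_of_mem_zpowers hf (step s hs1.1 (mem_centralizer_iff.mp hs2 z (mem_zpowers z)).symm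
        (mem_centralizer_singleton_iff.mp hs1.2)).symm).eq.symm
    have := Coprime.thompson_pxq hz2 (by
      rw [Nat.card_zpowers, orderOf_eq_prime hwp hw1]
      exact (Nat.coprime_primes Fact.out Nat.prime_two).mpr hp) (hT.to_le inf_le_left) hzw hzS hwS hfix
      (mem_zpowers w)
    exact (mem_centralizer_iff.mp this t ⟨ht, mem_centralizer_singleton_iff.mpr htx⟩).symm
  -- hence all of T
  have hxw : w ∉ zpowers x := fun hm => by
    have hc : Commute z x := commute_of_mem_zpowers (mem_zpowers_of_pow u.xp hm hw1) (Commute.symm hwz)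
    exact inverted_ne hp u.xp u.x1 u.xz hc.eq
  obtain ⟨hE, hcard⟩ := ea_extend (Thompson.ea_zpowers u.xp) hwp
    (fun e he => (commute_of_mem_zpowers he hwx).eq.symm) hxw
  rw [Nat.card_zpowers, orderOf_eq_prime u.xp u.x1, ← pow_two] at hcard
  have hxwn : zpowers w ≤ normalizer (zpowers x : Set G) :=
    zpowers_le.mpr (mem_normalizer_zpowers hwx)
  have hcop : ¬ p ∣ Nat.card T := by
    intro hd
    obtain ⟨m, hm⟩ := IsPGroup.iff_card.mp hT
    rw [hm] at hd
    exact hp ((Nat.prime_dvd_prime_iff_eq Fact.out Nat.prime_two).mp ((Fact.out : p.Prime).dvd_of_dvd_pow hd))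
  have hET : zpowers x ⊔ zpowers w ≤ normalizer (T : Set G) :=
    sup_le (zpowers_le.mpr (hN (mem_centralizer_singleton_iff.mpr u.xv))) (zpowers_le.mpr hwN)
  have hall : T ≤ centralizer {w} := by
    refine Coprime.ea_le_of_centralizers_le hE hcard hcop hET fun e he he1 t ht => ?_
    refine mem_centralizer_singleton_iff.mpr (Commute.symm ?_).eq
    obtain ⟨_, hxi, _, hwj, rfl⟩ := (Coprime.mem_sup_of_le_normalizer hxwn).mp he
    obtain ⟨i, rfl⟩ := (mem_powers_iff_mem_zpowers.mpr hxi : _ ∈ Submonoid.powers x)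
    obtain ⟨j, rfl⟩ := (mem_powers_iff_mem_zpowers.mpr hwj : _ ∈ Submonoid.powers w)
    have hte : Commute t (x ^ i * w ^ j) := mem_centralizer_singleton_iff.mp ht.2
    by_cases hi : x ^ i = 1
    · simp only [hi, one_mul] at he1 hte
      exact (commute_of_mem_zpowers (mem_zpowers_of_pow hwp (pow_mem (mem_zpowers w) j) he1) hte).symm
    obtain ⟨s, hs⟩ := mem_zpowers_iff.mp (mem_zpowers_of_pow u.xp (pow_mem (mem_zpowers x) i) hi)
    have hts : Commute t (x * (w ^ j) ^ s) := by
      have hcm : Commute (x ^ i) (w ^ j) := (Commute.pow_pow (Commute.symm hwx) i j)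
      have := hte.zpow_right s
      rwa [hcm.mul_zpow, hs] at this
    obtain ⟨k, hk⟩ := (mem_powers_iff_mem_zpowers.mpr
      (inv_mem (zpow_mem (pow_mem (mem_zpowers w) j) s)) : _ ∈ Submonoid.powers w)
    have hconj : ∀ k : ℕ, y ^ k * x * (y ^ k)⁻¹ = (w ^ k)⁻¹ * x := by
      intro k
      induction k with
      | zero => simp
      | succ k ih =>
        have hyw : Commute y (w ^ k)⁻¹ := ((Commute.symm hwy).pow_right k).inv_right
        calc y ^ (k + 1) * x * (y ^ (k + 1))⁻¹ = y * (y ^ k * x * (y ^ k)⁻¹) * y⁻¹ := by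
              rw [pow_succ']; group
          _ = (y * (w ^ k)⁻¹) * x * y⁻¹ := by rw [ih]; group
          _ = (w ^ k)⁻¹ * (y * x * y⁻¹) := by rw [hyw.eq]; group
          _ = (w ^ k)⁻¹ * (w⁻¹ * x) := by rw [hwdef, commutatorElement_def]; group
          _ = _ := by rw [pow_succ']; group
    have hconj' : y ^ k * x * (y ^ k)⁻¹ = x * (w ^ j) ^ s := by
      rw [hconj, show w ^ k = ((w ^ j) ^ s)⁻¹ from hk, inv_inv]
      exact ((Commute.pow_left hwx j).zpow_left s).eq
    have hyN : y ^ k ∈ normalizer (T : Set G) :=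
      pow_mem (hN (mem_centralizer_singleton_iff.mpr hyv)) k
    have ht' : (y ^ k)⁻¹ * t * y ^ k ∈ T := by
      have := (mem_normalizer_iff.mp (inv_mem hyN) t).mp ht.1
      rwa [inv_inv] at this
    have htx' : Commute ((y ^ k)⁻¹ * t * y ^ k) x := by
      refine (Commute.conj_iff (y ^ k)).mp ?_
      rw [show y ^ k * ((y ^ k)⁻¹ * t * y ^ k) * (y ^ k)⁻¹ = t by group, hconj']
      exact hts
    have hwt := hTx _ ht' htx'.eq
    have hwyk : Commute w (y ^ k) := Commute.pow_right hwy k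
    have := (hwyk.mul_right hwt).mul_right hwyk.inv_right
    rwa [show y ^ k * ((y ^ k)⁻¹ * t * y ^ k) * (y ^ k)⁻¹ = t by group] at this
  refine hw1 (eq_one_of_pow hp hT (mem_normCore_of_centralizes (h.char2.2 _ hv2 ?_)
    (mem_normalizer_zpowers hwv) fun t ht => (mem_centralizer_singleton_iff.mp (hall ht)).symm) hwp)
  simpa using u.v_ne

/-- Two elements of H spanning a dihedral group on x and its image are impossible. -/
theorem pair_contra (u : Duo p z v H A x) (h : Setting p n G) (hA : Nat.card A = p ^ (n - 2))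
    {g w : G} (hg : g ∈ H) (hgv : g * v = v * g) (hgA : g ∈ centralizer (A : Set G)) (hgg : g * g = z)
    (hw : w ∈ H) (hwv : w * v = v * w) (hwA : w ∈ centralizer (A : Set G))
    (hwx : w * x = x * w) (hgw : g * w = z * (w * g)) (hxy : Commute x (g * x * g⁻¹))
    (hyR : (g * x * g⁻¹) ^ p = 1) : False := by
  have : Fact (Nat.Prime 2) := ⟨Nat.prime_two⟩
  obtain ⟨h0, hh0, hne⟩ := u.moved
  have d := u.centre
  have hp := h.odd
  have hn := h.rank
  set y := g * x * g⁻¹ with hydef
  have hyv : y * v = v * y := ((Commute.mul_left (Commute.mul_left hgv u.xv) (Commute.inv_left hgv))).eq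
  have hzg : g * z = z * g := d.comm_z hg
  have hyz : z * y * z⁻¹ = y⁻¹ := by
    calc z * y * z⁻¹ = (z * g) * x * (z * g)⁻¹ := by rw [hydef]; group
      _ = g * (z * x * z⁻¹) * g⁻¹ := by rw [← hzg]; group
      _ = _ := by rw [u.xz, hydef]; group
  have hgy : g * y * g⁻¹ = x⁻¹ := by
    calc g * y * g⁻¹ = (g * g) * x * (g * g)⁻¹ := by rw [hydef]; group
      _ = _ := by rw [hgg, u.xz]
  have hwy : w * y * w⁻¹ = y⁻¹ := by
    have e1 : w * g = z * (g * w) := by rw [hgw, ← mul_assoc, d.sq_one, one_mul]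
    calc w * y * w⁻¹ = (w * g) * x * (w * g)⁻¹ := by rw [hydef]; group
      _ = z * g * (w * x * w⁻¹) * g⁻¹ * z⁻¹ := by rw [e1]; group
      _ = z * y * z⁻¹ := by rw [hwx, mul_inv_cancel_right, hydef]; group
      _ = _ := hyz
  have hy1 : y ≠ 1 := fun h' => u.x1 (conj_eq_one_iff.mp h')
  have hyA : ∀ a ∈ A, a * y = y * a := fun a ha =>
    ((Commute.mul_right (Commute.mul_right (mem_centralizer_iff.mp hgA a ha) (u.xA ha))
      (Commute.inv_right (mem_centralizer_iff.mp hgA a ha)))).eq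
  -- the elementary group E
  obtain ⟨hE1, hc1⟩ := ea_extend u.ea u.xp (fun a ha => u.xA ha) (u.x_not_mem hp)
  have hle1 : A ⊔ zpowers x ≤ centralizer {w} :=
    sup_le (fun a ha => mem_centralizer_singleton_iff.mpr (mem_centralizer_iff.mp hwA a ha))
      (zpowers_le.mpr (mem_centralizer_singleton_iff.mpr hwx.symm))
  have hyE1 : y ∉ A ⊔ zpowers x := fun hm =>
    inverted_ne hp hyR hy1 hwy (mem_centralizer_singleton_iff.mp (hle1 hm)).symm
  have hyc : ∀ e ∈ A ⊔ zpowers x, e * y = y * e := fun e he =>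
    mem_centralizer_singleton_iff.mp ((sup_le (fun a ha => mem_centralizer_singleton_iff.mpr (hyA a ha))
      (zpowers_le.mpr (mem_centralizer_singleton_iff.mpr hxy.eq)) : A ⊔ zpowers x ≤ centralizer {y}) he)
  obtain ⟨hE, hc2⟩ := ea_extend hE1 hyR hyc hyE1
  set E := A ⊔ zpowers x ⊔ zpowers y with hEdef
  have hAE : A ≤ E := le_sup_left.trans le_sup_left
  have hxE : x ∈ E := mem_sup_left (mem_sup_right (mem_zpowers x))
  have hyE : y ∈ E := mem_sup_right (mem_zpowers y)
  have hEv : E ≤ centralizer {v} :=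
    sup_le (sup_le (fun a ha => mem_centralizer_singleton_iff.mpr (u.Av ha))
      (zpowers_le.mpr (mem_centralizer_singleton_iff.mpr u.xv)))
      (zpowers_le.mpr (mem_centralizer_singleton_iff.mpr hyv))
  have hEn : Nat.card E = p ^ n := by
    refine le_antisymm (rank_contra h.bound (by rw [pow_two]; exact u.vsq) u.v_ne hE hEv) ?_
    calc p ^ n = p * (p * p ^ (n - 2)) := by rw [← pow_succ', ← pow_succ']; congr 1; omega
      _ ≤ p * Nat.card ↥(A ⊔ zpowers x) := Nat.mul_le_mul_left _ (hA ▸ hc1)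
      _ ≤ _ := hc2
  obtain ⟨H', d'⟩ := h.exists_centre u.vsq u.v_ne hE hEn hEv
  have hN := d'.norm
  have hzN : z ∈ normalizer (H' : Set G) := hN (mem_centralizer_singleton_iff.mpr u.vz.symm)
  have hzH' : z ∉ H' := not_mem_of_inverted hp d'.two hN u.xv u.xp u.x1 u.xz
  have hcop : ¬ p ∣ Nat.card H' := by
    intro hd
    obtain ⟨m, hm⟩ := IsPGroup.iff_card.mp d'.two
    rw [hm] at hd
    exact hp ((Nat.prime_dvd_prime_iff_eq Fact.out Nat.prime_two).mp ((Fact.out : p.Prime).dvd_of_dvd_pow hd))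
  have hmoves : ¬ H' ≤ centralizer {x} := fun hle => u.x1 (d'.faithful x u.xp u.xv fun t ht =>
    (mem_centralizer_singleton_iff.mp (hle ht)).symm)
  obtain ⟨U, hUE, hxU, hsup, s, hs, hUs, hxs⟩ := exists_weight hE (hEv.trans hN) hcop hxE hmoves
  have ecomm : ∀ {e f : G}, e ∈ E → f ∈ E → Commute e f := fun he hf => Coprime.ea_comm hE he hf
  have hxn : zpowers x ≤ normalizer (U : Set G) := le_normalizer_of_conj fun e he f hf => by
    rw [(ecomm (zpowers_le.mpr hxE he) (hUE hf)).eq, mul_inv_cancel_right]; exact hf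
  have hdec : ∀ e ∈ E, ∃ c ∈ U, ∃ r ∈ zpowers x, c * r = e := fun e he =>
    (Coprime.mem_sup_of_le_normalizer hxn).mp (hsup.symm ▸ he)
  -- fixed by U and an element outside U means fixed by x
  have hyper : ∀ {t e : G}, (∀ c ∈ U, Commute c t) → e ∈ E → e ∉ U → Commute e t → Commute x t := by
    intro t e hc he heU het
    obtain ⟨c, hcU, r, hr, rfl⟩ := hdec e he
    have hrt : Commute r t := by
      have := (hc _ (inv_mem hcU)).mul_left het
      rwa [inv_mul_cancel_left] at this
    refine (commute_of_mem_zpowers (mem_zpowers_of_pow u.xp hr fun hr1 => heU ?_) hrt.symm).symm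
    rw [hr1, mul_one]; exact hcU
  have hfull : ∀ {t e : G}, (∀ c ∈ U, Commute c t) → Commute x t → e ∈ E → Commute e t := by
    intro t e hc hxt he
    obtain ⟨c, hcU, r, hr, rfl⟩ := hdec e he
    exact (hc c hcU).mul_left (commute_of_mem_zpowers hr hxt.symm).symm
  by_cases hAU : A ≤ U
  · refine hxs (d'.core_comm hp u.xmem u.xv hs (mem_centralizer_iff.mpr fun a ha => hUs a (hAU ha))).eq
  obtain ⟨d0, hd0A, hd0U⟩ := SetLike.not_le_iff_exists.mp hAU
  have hd0E := hAE hd0A
  have hd0z : d0 * z = z * d0 := mem_centralizer_singleton_iff.mp (u.Az hd0A)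
  -- a z-conjugate outside U
  obtain ⟨c0, hc0, hc0U⟩ : ∃ c ∈ U, z * c * z⁻¹ ∉ U := by
    by_contra hall
    push Not at hall
    obtain ⟨c, hc, r, hr, he⟩ := hdec d0 hd0E
    obtain ⟨i, rfl⟩ := mem_zpowers_iff.mp hr
    have hzc : z * c * z⁻¹ = d0 * x ^ i := by
      rw [← he]
      calc z * c * z⁻¹ = (z * (c * x ^ i) * z⁻¹) * (z * x * z⁻¹) ^ (-i) := by rw [conj_zpow]; group
        _ = (c * x ^ i) * x ^ i := by
            rw [he, ← hd0z, mul_inv_cancel_right, u.xz, inv_zpow, zpow_neg, inv_inv, ← he]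
    have h2 : d0 * d0 ∈ U := by
      have h2' := mul_mem hc (hall c hc)
      rw [hzc] at h2'
      have : c * (d0 * x ^ i) = d0 * d0 := by
        rw [(ecomm hd0E (zpow_mem hxE i)).eq, ← mul_assoc, he]
      rwa [this] at h2'
    refine hd0U ?_
    by_cases h1 : d0 * d0 = 1
    · exfalso
      have hd1 : d0 = 1 := eq_one_of_pow hp (IsPGroup.of_card (n := 1) (by
        rw [Nat.card_zpowers, pow_one]
        exact orderOf_eq_prime (by rwa [pow_two]) fun h' => hd0U (h' ▸ one_mem U)) : IsPGroup 2 (zpowers d0))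
        (mem_zpowers d0) (hE.2 d0 hd0E)
      exact hd0U (hd1 ▸ one_mem U)
    exact zpowers_le.mpr h2 (mem_zpowers_of_pow (hE.2 d0 hd0E) (mul_mem (mem_zpowers d0) (mem_zpowers d0)) h1)
  have hzE : ∀ e ∈ E, z * e * z⁻¹ ∈ E := by
    have hle : E ≤ normalizer (E : Set G) := le_normalizer
    intro e he
    have hmap : E.map (MulAut.conj z).toMonoidHom ≤ E := by
      rw [hEdef, Subgroup.map_sup, Subgroup.map_sup, MonoidHom.map_zpowers, MonoidHom.map_zpowers]
      refine sup_le (sup_le ?_ (zpowers_le.mpr ?_)) (zpowers_le.mpr ?_)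
      · rintro _ ⟨a, ha, rfl⟩
        show z * a * z⁻¹ ∈ _
        rw [← mem_centralizer_singleton_iff.mp (u.Az ha), mul_inv_cancel_right]
        exact mem_sup_left (mem_sup_left ha)
      · show z * x * z⁻¹ ∈ _
        rw [u.xz]
        exact inv_mem (mem_sup_left (mem_sup_right (mem_zpowers x)))
      · show z * y * z⁻¹ ∈ _
        rw [hyz]
        exact inv_mem (mem_sup_right (mem_zpowers y))
    exact hmap ⟨e, he, rfl⟩
  set b := z * c0 * z⁻¹ with hb
  have hbE : b ∈ E := hzE c0 (hUE hc0)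
  have hEv' : ∀ {e : G}, e ∈ E → e * v = v * e := fun he => mem_centralizer_singleton_iff.mp (hEv he)
  set s2 := b * s * b⁻¹ * s⁻¹ with hs2
  have hs2H : s2 ∈ H' := mul_mem (d'.conj_mem (hEv' hbE) hs) (inv_mem hs)
  have shiftU : ∀ {e t : G}, e ∈ E → (∀ c ∈ U, Commute c t) → ∀ c ∈ U, Commute c (e * t * e⁻¹ * t⁻¹) :=
    fun he ht c hc => (((ecomm (hUE hc) he).mul_right (ht c hc)).mul_right
      (ecomm (hUE hc) he).inv_right).mul_right (ht c hc).inv_right
  have hUs2 : ∀ c ∈ U, Commute c s2 := shiftU hbE fun c hc => hUs c hc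
  set s3 := d0 * s2 * d0⁻¹ * s2⁻¹ with hs3
  have hs3H : s3 ∈ H' := mul_mem (d'.conj_mem (hEv' hd0E) hs2H) (inv_mem hs2H)
  have hUs3 : ∀ c ∈ U, Commute c s3 := shiftU hd0E hUs2
  have conjb : ∀ {t : G}, (∀ c ∈ U, Commute c t) → Commute b (z * t * z⁻¹) := fun ht => by
    rw [hb]; exact (Commute.conj_iff z).mpr (ht c0 hc0)
  set s2' := z * s2 * z⁻¹ with hs2'
  set s3' := z * s3 * z⁻¹ with hs3'
  have hs2'H : s2' ∈ H' := (mem_normalizer_iff.mp hzN s2).mp hs2H
  have hs3'H : s3' ∈ H' := (mem_normalizer_iff.mp hzN s3).mp hs3H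
  have c22 : Commute s2 s2' := d'.orth (hEv' hbE) hs hs2'H (conjb hUs2).eq
  have c23 : Commute s2 s3' := d'.orth (hEv' hbE) hs hs3'H (conjb hUs3).eq
  set f := s2 * s2' with hf
  have hfz : f * z = z * f := by
    refine (mul_inv_eq_iff_eq_mul.mp ?_).symm
    calc z * f * z⁻¹ = s2' * ((z * z) * s2 * (z * z)⁻¹) := by rw [hf, hs2']; group
      _ = s2' * s2 := by rw [d.sq_one]; group
      _ = _ := c22.eq.symm
  set c := d0 * f * d0⁻¹ * f⁻¹ with hc
  have hH'v : H' ≤ centralizer {v} := d'.le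
  have hgc : Commute g c := d.shift_fixed u.vmem u.vsq hh0 hne hN hH'v hzH' d'.mem hg hgv
    (mem_centralizer_iff.mp hgA d0 hd0A).symm (u.Av hd0A) (mul_mem hs2H hs2'H) hfz
  have hwc : Commute w c := d.shift_fixed u.vmem u.vsq hh0 hne hN hH'v hzH' d'.mem hw hwv
    (mem_centralizer_iff.mp hwA d0 hd0A).symm (u.Av hd0A) (mul_mem hs2H hs2'H) hfz
  have hcs : c = s3 * s3' := by
    have e3 : d0 * s2' * d0⁻¹ = s3' * s2' := by
      calc d0 * s2' * d0⁻¹ = (d0 * z) * s2 * (d0 * z)⁻¹ := by rw [hs2']; group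
        _ = z * (d0 * s2 * d0⁻¹) * z⁻¹ := by rw [hd0z]; group
        _ = _ := by rw [hs3', hs2', hs3]; group
    calc c = (d0 * s2 * d0⁻¹) * (d0 * s2' * d0⁻¹) * s2'⁻¹ * s2⁻¹ := by rw [hc, hf]; group
      _ = s3 * (s2 * s3') * s2⁻¹ := by rw [e3, hs3]; group
      _ = _ := by rw [c23.eq]; group
  -- an inverted element of U
  obtain ⟨e0, he0, r, hr, her⟩ := hdec y hyE
  obtain ⟨i, rfl⟩ := mem_zpowers_iff.mp hr
  have he0eq : e0 = y * x ^ (-i) := by rw [← her]; group
  have he0z : z * e0 * z⁻¹ = e0⁻¹ := by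
    calc z * e0 * z⁻¹ = (z * y * z⁻¹) * (z * x * z⁻¹) ^ (-i) := by rw [he0eq, conj_zpow]; group
      _ = _ := by
          rw [hyz, u.xz, inv_zpow, he0eq]
          exact (hxy.symm.zpow_right (-i)).mul_inv.symm
  have he0s : Commute e0 (s3 * s3') := by
    refine (hUs3 e0 he0).mul_right ?_
    have := (Commute.conj_iff z).mpr (hUs3 e0 he0)
    rw [he0z] at this
    simpa using this.inv_left
  rw [← hcs] at he0s
  have he1 : Commute (y⁻¹ * x ^ (-i)) c := by
    have h1 := (Commute.conj_iff w).mpr he0s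
    rw [show w * c * w⁻¹ = c by rw [hwc.eq, mul_inv_cancel_right]] at h1
    rw [show w * e0 * w⁻¹ = y⁻¹ * x ^ (-i) by
      calc w * e0 * w⁻¹ = (w * y * w⁻¹) * (w * x * w⁻¹) ^ (-i) := by rw [he0eq, conj_zpow]; group
        _ = _ := by rw [hwy, hwx, mul_inv_cancel_right]] at h1
    exact h1
  have hyc' : Commute y c := by
    have h2 := he0s.mul_left he1.inv_left
    rw [he0eq, show y * x ^ (-i) * (y⁻¹ * x ^ (-i))⁻¹ = y * y by group] at h2
    refine (commute_of_mem_zpowers (mem_zpowers_of_pow hyR (mul_mem (mem_zpowers y) (mem_zpowers y)) ?_)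
      h2.symm).symm
    intro hyy
    exact inverted_ne hp hyR hy1 (v := z) hyz (by
      have hy' : y⁻¹ = y := inv_eq_of_mul_eq_one_left hyy
      rw [hy'] at hyz
      exact mul_inv_eq_iff_eq_mul.mp hyz)
  have hxc : Commute x c := by
    have h1 := (Commute.conj_iff g).mpr hyc'
    rw [hgy, show g * c * g⁻¹ = c by rw [hgc.eq, mul_inv_cancel_right]] at h1
    simpa using h1.inv_left
  -- hence x fixes s3
  set k := s3⁻¹ * (x * s3 * x⁻¹) with hk
  have hkH : k ∈ H' := mul_mem (inv_mem hs3H) (d'.conj_mem u.xv hs3H)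
  have hk2 : k = s3' * (x * s3'⁻¹ * x⁻¹) := by
    have hx3 : x * s3 * x⁻¹ * (x * s3' * x⁻¹) = s3 * s3' := by
      calc x * s3 * x⁻¹ * (x * s3' * x⁻¹) = x * (s3 * s3') * x⁻¹ := by group
        _ = _ := by rw [← hcs, hxc.eq, mul_inv_cancel_right]
    rw [hk, eq_mul_inv_of_mul_eq hx3]
    group
  have hUk : ∀ c' ∈ U, Commute c' k := fun c' hc' =>
    (hUs3 c' hc').inv_right.mul_right (((ecomm (hUE hc') hxE).mul_right (hUs3 c' hc')).mul_right
      (ecomm (hUE hc') hxE).inv_right)
  have hbk : Commute b k := by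
    rw [hk2]
    exact (conjb hUs3).mul_right (((ecomm hbE hxE).mul_right (conjb hUs3).inv_right).mul_right
      (ecomm hbE hxE).inv_right)
  have hxk : Commute x k := hyper hUk hbE hc0U hbk
  have hk1 := shift_one_two hp d'.two (inv_mem hkH) hxk.inv_right.eq (u := s3⁻¹)
    (by rw [hk]; group) u.xp
  rw [inv_eq_one, hk, inv_mul_eq_one] at hk1
  have hxs3 : Commute x s3 := mul_inv_eq_iff_eq_mul.mp hk1.symm
  have hd0s3 : Commute d0 s3 := hfull hUs3 hxs3 hd0E
  have hs31 := shift_one_two hp d'.two hs3H hd0s3.eq (u := s2) (by rw [hs3]; group) (hE.2 d0 hd0E)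
  rw [hs3, mul_inv_eq_one] at hs31
  have hxs2 : Commute x s2 := hyper hUs2 hd0E hd0U (mul_inv_eq_iff_eq_mul.mp hs31)
  have hs21 := shift_one_two hp d'.two hs2H (hfull hUs2 hxs2 hbE).eq (u := s) (by rw [hs2]; group)
    (hE.2 b hbE)
  rw [hs2, mul_inv_eq_one] at hs21
  exact hxs (hyper (fun c hc => hUs c hc) hbE hc0U (mul_inv_eq_iff_eq_mul.mp hs21)).eq

end Duo

end Cfsg.Agent.KlingerMason
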